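import Groth.Agent.Vancyc.H686.NormalForm

/-!
# Quadratic forms in an odd number of variables over a strictly henselian local ring with `2` invertible

* `splitOdd_of_isUnit_det`: a matrix `a` of size `2m + 1` with `a + aᵀ` invertible: the form `xᵀ a x` becomes
  `z² + ∑ x_k y_k` after a linear change of coordinates.
* `nonempty_quadRing_equiv_odd`: `R[x]/(Q - b) ≃ₐ[R] R[z, x_k, y_k]/(z² + ∑ x_k y_k - b)`.
-/

set_option autoImplicit false
universe u

open IsLocalRing MvPolynomial

namespace Groth.Agent.Vancyc.H686.NormalFormOdd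

open Groth.Agent.Sga67.QuadSplit Groth.Agent.Vancyc.H686.NormalForm Matrix

section Block

variable {A : Type*} [CommRing A] {I J : Type*} [Fintype I] [DecidableEq I] [Fintype J] [DecidableEq J]

/-- Splitting off a non-degenerate block. -/
lemma block_reduce' (a : Matrix (I ⊕ J) (I ⊕ J) A)
    (hP : IsUnit (a.toBlocks₁₁ + a.toBlocks₁₁ᵀ).det) :
    ∃ (T : Matrix J J A) (u u' : Matrix (I ⊕ J) (I ⊕ J) A), u * u' = 1 ∧ u' * u = 1 ∧
      IsAlt (uᵀ * a * u - Matrix.fromBlocks a.toBlocks₁₁ 0 0 T) := by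
  set P := a.toBlocks₁₁ with hPdef
  set R := a.toBlocks₁₂ with hRdef
  set S := a.toBlocks₂₁ with hSdef
  set T := a.toBlocks₂₂ with hTdef
  have ha : a = Matrix.fromBlocks P R S T := (fromBlocks_toBlocks a).symm
  obtain ⟨X, hX⟩ : ∃ X : Matrix I J A, (P + Pᵀ) * X = - (R + Sᵀ) := by
    refine ⟨- ((P + Pᵀ)⁻¹ * (R + Sᵀ)), ?_⟩
    rw [Matrix.mul_neg, ← Matrix.mul_assoc, Matrix.mul_nonsing_inv _ hP, Matrix.one_mul]
  refine ⟨Xᵀ * P * X + Xᵀ * R + S * X + T, Matrix.fromBlocks 1 X 0 1,
    Matrix.fromBlocks 1 (-X) 0 1, ?_, ?_, ?_⟩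
  · rw [fromBlocks_multiply]
    simp
  · rw [fromBlocks_multiply]
    simp
  · have h1 : (Matrix.fromBlocks (1 : Matrix I I A) X 0 (1 : Matrix J J A))ᵀ * a *
        Matrix.fromBlocks 1 X 0 1 = Matrix.fromBlocks P (P * X + R) (Xᵀ * P + S)
          (Xᵀ * P * X + Xᵀ * R + S * X + T) := by
      rw [ha, fromBlocks_transpose, fromBlocks_multiply, fromBlocks_multiply]
      simp [Matrix.add_mul, Matrix.mul_assoc]
      abel
    rw [h1]
    refine ⟨Matrix.fromBlocks 0 (P * X + R) 0 0, ?_⟩
    rw [fromBlocks_transpose, sub_eq_add_neg, sub_eq_add_neg, fromBlocks_neg, fromBlocks_neg,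
      fromBlocks_add, fromBlocks_add]
    have h2 : (P * X + R)ᵀ = - (Xᵀ * P + S) := by
      have h3 := congrArg Matrix.transpose hX
      rw [transpose_mul, transpose_add, transpose_transpose, transpose_neg, transpose_add,
        transpose_transpose, Matrix.mul_add] at h3
      rw [transpose_add, transpose_mul]
      have h4 : Xᵀ * Pᵀ = -(Rᵀ + S) - Xᵀ * P := by rw [← h3]; abel
      rw [h4]; abel
    rw [h2]
    simp

end Block

section Odd

variable {A : Type*} [CommRing A] {n n' κ : Type*} [Fintype n] [DecidableEq n]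
  [Fintype n'] [DecidableEq n'] [Fintype κ] [DecidableEq κ]

/-- The quadratic form `xᵀ a x` is `z² + ∑ x_k y_k` in suitable coordinates. -/
def SplitOdd (a : Matrix n n A) (κ : Type*) [Fintype κ] [DecidableEq κ] : Prop :=
  ∃ (g : Matrix n (Unit ⊕ (κ ⊕ κ)) A) (g' : Matrix (Unit ⊕ (κ ⊕ κ)) n A), g * g' = 1 ∧ g' * g = 1 ∧
    IsAlt (gᵀ * a * g - Matrix.fromBlocks 1 0 0 (Matrix.fromBlocks 0 1 0 0))

lemma SplitOdd.congr {a : Matrix n n A} {a' : Matrix n' n' A} (h : SplitOdd a' κ)
    (u : Matrix n n' A) (u' : Matrix n' n A) (h1 : u * u' = 1) (h2 : u' * u = 1)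
    (h3 : IsAlt (uᵀ * a * u - a')) : SplitOdd a κ := by
  obtain ⟨g, g', hg1, hg2, hg3⟩ := h
  refine ⟨u * g, g' * u', ?_, ?_, ?_⟩
  · rw [Matrix.mul_assoc, ← Matrix.mul_assoc g, hg1, Matrix.one_mul, h1]
  · rw [Matrix.mul_assoc, ← Matrix.mul_assoc u', h2, Matrix.one_mul, hg2]
  · have := (h3.conj g).add hg3
    convert this using 1
    rw [transpose_mul, Matrix.mul_sub, Matrix.sub_mul]
    simp only [Matrix.mul_assoc]
    abel

/-- `z² ⊕` split. -/
lemma splitOdd_of_blocks (s s' : A) (hs : s * s' = 1) (p : Matrix Unit Unit A)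
    (hp : p = fun _ _ => s * s) {b : Matrix n n A} (hb : Split b κ) :
    SplitOdd (Matrix.fromBlocks p 0 0 b) κ := by
  obtain ⟨g, g', hg1, hg2, hg3⟩ := hb
  let t : Matrix Unit Unit A := fun _ _ => s'
  let t' : Matrix Unit Unit A := fun _ _ => s
  have e1 : t * t' = 1 := by
    ext i j
    simp only [t, t', Matrix.mul_apply, Finset.univ_unique, Finset.sum_const, Finset.card_singleton,
      one_smul, Matrix.one_apply, if_true]
    rw [mul_comm]
    exact hs
  have e2 : t' * t = 1 := by
    ext i j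
    simp only [t, t', Matrix.mul_apply, Finset.univ_unique, Finset.sum_const, Finset.card_singleton,
      one_smul, Matrix.one_apply, if_true]
    exact hs
  refine ⟨Matrix.fromBlocks t 0 0 g, Matrix.fromBlocks t' 0 0 g', ?_, ?_, ?_⟩
  · rw [fromBlocks_multiply]
    simp [e1, hg1]
  · rw [fromBlocks_multiply]
    simp [e2, hg2]
  · have e3 : tᵀ * p * t = 1 := by
      ext i j
      simp only [t, hp, Matrix.mul_apply, Finset.univ_unique, Finset.sum_const,
        Finset.card_singleton, one_smul, Matrix.one_apply, Matrix.transpose_apply, if_true]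
      linear_combination (s * s' + 1) * hs
    have e4 : (Matrix.fromBlocks t 0 0 g)ᵀ * Matrix.fromBlocks p 0 0 b * Matrix.fromBlocks t 0 0 g =
        Matrix.fromBlocks 1 0 0 (gᵀ * b * g) := by
      rw [fromBlocks_transpose, fromBlocks_multiply, fromBlocks_multiply]
      simp [e3]
    rw [e4]
    have h5 := (isAlt_zero : IsAlt (0 : Matrix Unit Unit A)).fromBlocks hg3
    convert h5 using 1
    rw [sub_eq_add_neg, fromBlocks_neg, fromBlocks_add]
    simp [sub_eq_add_neg]

end Odd

section Local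

variable {R : Type u} [CommRing R]

/-- Elementary change of basis with `u e_i = e_i + e_j`. -/
lemma exists_diag_unit [IsLocalRing R] (n : Type) [Fintype n] [DecidableEq n] [Nonempty n]
    (a : Matrix n n R) (h : IsUnit (a + aᵀ).det) :
    ∃ (u u' : Matrix n n R) (i : n), u * u' = 1 ∧ u' * u = 1 ∧ IsUnit ((uᵀ * a * u) i i) := by
  by_cases hd : ∃ i, IsUnit (a i i)
  · obtain ⟨i, hi⟩ := hd
    exact ⟨1, 1, i, by simp, by simp, by simpa using hi⟩
  push Not at hd
  have hex : ∃ i j, i ≠ j ∧ IsUnit (a i j + a j i) := by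
    by_contra hcon
    push Not at hcon
    have hz : ∀ i j, (a + aᵀ) i j ∈ maximalIdeal R := by
      intro i j
      rw [Matrix.add_apply, Matrix.transpose_apply]
      by_cases hij : i = j
      · subst hij
        exact Ideal.add_mem _ ((mem_maximalIdeal _).2 (hd i)) ((mem_maximalIdeal _).2 (hd i))
      · exact (mem_maximalIdeal _).2 (hcon i j hij)
    have h0 : (residue R) (a + aᵀ).det = 0 := by
      rw [RingHom.map_det]
      have : (residue R).mapMatrix (a + aᵀ) = 0 := by
        ext i j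
        have := (residue_eq_zero_iff _).2 (hz i j)
        simpa using this
      rw [this, Matrix.det_zero]
    exact (residue_ne_zero_iff_isUnit _).2 h h0
  obtain ⟨i, j, hij, hu⟩ := hex
  refine ⟨Matrix.transvection j i 1, Matrix.transvection j i (-1), i, ?_, ?_, ?_⟩
  · rw [Matrix.transvection_mul_transvection_same _ _ hij.symm]
    simp
  · rw [Matrix.transvection_mul_transvection_same _ _ hij.symm]
    simp
  · have h1 : ((Matrix.transvection j i (1 : R) : Matrix n n R)ᵀ * a *
        (Matrix.transvection j i (1 : R) : Matrix n n R)) i i = a i i + a i j + a j i + a j j := by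
      simp only [Matrix.transvection, Matrix.transpose_add, Matrix.transpose_one,
        Matrix.add_mul, Matrix.mul_add, Matrix.one_mul, Matrix.mul_one, Matrix.add_apply,
        Matrix.transpose_single]
      rw [Matrix.single_mul_apply_same, Matrix.mul_single_apply_same,
        Matrix.mul_assoc, Matrix.single_mul_apply_same, Matrix.mul_single_apply_same]
      ring
    rw [h1]
    have h2 : a i i + a i j + a j i + a j j = (a i j + a j i) + (a i i + a j j) := by ring
    rw [h2]
    have h3 : a i i + a j j ∈ maximalIdeal R :=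
      Ideal.add_mem _ ((mem_maximalIdeal _).2 (hd i)) ((mem_maximalIdeal _).2 (hd j))
    by_contra hc
    have h4 : (a i j + a j i) + (a i i + a j j) ∈ maximalIdeal R := (mem_maximalIdeal _).2 hc
    have h5 : a i j + a j i ∈ maximalIdeal R := by
      have := Ideal.sub_mem _ h4 h3
      simpa using this
    exact (mem_maximalIdeal _).1 h5 hu

variable [HenselianLocalRing R] [IsSepClosed (ResidueField R)]

/-- Square roots of units. -/
lemma exists_sq_root (h2 : IsUnit (2 : R)) (p : R) (hp : IsUnit p) : ∃ s : R, s * s = p := by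
  have h2' : (2 : ResidueField R) ≠ 0 := by
    have := (h2.map (residue R)).ne_zero
    rwa [map_ofNat] at this
  have : NeZero (2 : ResidueField R) := ⟨h2'⟩
  obtain ⟨z, hz⟩ := IsSepClosed.exists_eq_mul_self (residue R p)
  obtain ⟨a₀, rfl⟩ := residue_surjective z
  have ha₀ : IsUnit a₀ := by
    rw [← residue_ne_zero_iff_isUnit]
    rintro h0
    rw [h0, mul_zero] at hz
    exact (residue_ne_zero_iff_isUnit p).2 hp hz
  obtain ⟨s, hs, -⟩ := HenselianLocalRing.is_henselian (Polynomial.X ^ 2 - Polynomial.C p)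
    (Polynomial.monic_X_pow_sub_C p two_ne_zero) a₀ (by
      rw [← residue_eq_zero_iff]
      simp [hz, sq]) (by
      simp only [Polynomial.derivative_sub, Polynomial.derivative_X_pow, Polynomial.derivative_C,
        sub_zero, Polynomial.eval_mul, Polynomial.eval_pow, Polynomial.eval_X]
      simpa using h2.mul ha₀)
  refine ⟨s, ?_⟩
  have h3 : s ^ 2 - p = 0 := by simpa [Polynomial.IsRoot.def] using hs
  linear_combination h3

/-- **Normal form of a non-degenerate quadratic form in an odd number of variables.** -/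
theorem splitOdd_of_isUnit_det (h2 : IsUnit (2 : R)) (m : ℕ) (n : Type) [Fintype n] [DecidableEq n]
    (hn : Fintype.card n = 2 * m + 1) (a : Matrix n n R) (h : IsUnit (a + aᵀ).det) :
    SplitOdd a (Fin m) := by
  classical
  have hne : Nonempty n := by
    rw [← Fintype.card_pos_iff]
    omega
  obtain ⟨u, u', i, huu, huu', hi⟩ := exists_diag_unit n a h
  set a₀ := uᵀ * a * u with ha₀
  have hu : IsUnit u.det := by
    have := congrArg Matrix.det huu
    rw [det_mul, det_one] at this
    exact IsUnit.of_mul_eq_one _ this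
  suffices h1 : SplitOdd a₀ (Fin m) from h1.congr u u' huu huu' (by rw [← ha₀, sub_self]; exact isAlt_zero)
  have hdet₀ : IsUnit (a₀ + a₀ᵀ).det := by
    rw [det_of_isAlt a a₀ u (by rw [← ha₀, sub_self]; exact isAlt_zero)]
    exact (hu.pow 2).mul h
  -- reindex
  let J := {j : n // j ≠ i}
  let e : Unit ⊕ J ≃ n := (Equiv.sumCongr (Equiv.refl Unit) (Equiv.refl J)).trans
    ((Equiv.sumComm _ _).trans ((Equiv.sumCongr (Equiv.refl J)
      ((Equiv.ofUnique Unit {j : n // j = i}))).trans
        ((Equiv.sumComm _ _).trans (Equiv.sumCompl (fun j : n => j = i)))))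
  have he : e (Sum.inl ()) = i := by
    simp only [e, Equiv.trans_apply, Equiv.sumCongr_apply, Sum.map_inl, Equiv.refl_apply,
      Equiv.sumComm_apply, Sum.swap_inl, Sum.map_inr, Sum.swap_inr]
    exact (Equiv.ofUnique Unit {j : n // j = i} ()).2
  have hJ : Fintype.card J = 2 * m := by
    have := Fintype.card_congr e
    rw [Fintype.card_sum, Fintype.card_unit, hn] at this
    omega
  set a₁ : Matrix (Unit ⊕ J) (Unit ⊕ J) R := a₀.submatrix e e with ha₁
  have hdet₁ : IsUnit (a₁ + a₁ᵀ).det := by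
    have : a₁ + a₁ᵀ = (a₀ + a₀ᵀ).submatrix e e := by
      ext i j; simp [ha₁]
    rw [this, det_submatrix_equiv_self]
    exact hdet₀
  suffices h1 : SplitOdd a₁ (Fin m) by
    refine h1.congr ((1 : Matrix n n R).submatrix id e)
      ((1 : Matrix n n R).submatrix e id) ?_ ?_ ?_
    · rw [Matrix.submatrix_mul_equiv, Matrix.mul_one, submatrix_id_id]
    · rw [← Matrix.submatrix_mul _ _ e id e Function.bijective_id, Matrix.mul_one,
        submatrix_one_equiv]
    · convert (isAlt_zero : IsAlt (0 : Matrix (Unit ⊕ J) (Unit ⊕ J) R)) using 1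
      rw [sub_eq_zero]
      ext i j
      simp [ha₁, Matrix.mul_apply, Matrix.one_apply]
  have hp : IsUnit (a₁ (Sum.inl ()) (Sum.inl ())) := by
    rw [ha₁, Matrix.submatrix_apply, he]
    exact hi
  have hP : IsUnit (a₁.toBlocks₁₁ + a₁.toBlocks₁₁ᵀ).det := by
    rw [Matrix.det_unique, Matrix.add_apply, Matrix.transpose_apply]
    have : a₁.toBlocks₁₁ default default = a₁ (Sum.inl ()) (Sum.inl ()) := rfl
    rw [this, ← two_mul]
    exact h2.mul hp
  obtain ⟨T, v, v', hvv', hv'v, halt⟩ := block_reduce' a₁ hP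
  suffices h3 : SplitOdd (Matrix.fromBlocks a₁.toBlocks₁₁ 0 0 T) (Fin m) from
    h3.congr v v' hvv' hv'v halt
  have hT : IsUnit (T + Tᵀ).det := by
    have h5 := det_of_isAlt _ _ _ halt
    rw [fromBlocks_transpose, fromBlocks_add] at h5
    simp only [transpose_zero, add_zero] at h5
    rw [det_fromBlocks_zero₂₁] at h5
    have hvdet : IsUnit v.det := by
      have := congrArg Matrix.det hvv'
      rw [det_mul, det_one] at this
      exact IsUnit.of_mul_eq_one _ this
    have h6 : IsUnit ((a₁.toBlocks₁₁ + a₁.toBlocks₁₁ᵀ).det * (T + Tᵀ).det) := by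
      rw [h5]
      exact (hvdet.pow 2).mul hdet₁
    exact isUnit_of_mul_isUnit_right h6
  have hsplit : Split T (Fin m) := split_of_isUnit_det m J hJ T hT
  obtain ⟨s, hs⟩ := exists_sq_root h2 _ hp
  have hsu : IsUnit s := isUnit_of_mul_isUnit_left (hs ▸ hp)
  obtain ⟨s', hs'⟩ := hsu.exists_right_inv
  refine splitOdd_of_blocks s s' hs' _ ?_ hsplit
  ext i j
  rw [hs]
  rfl

end Local

section Ring

variable {R : Type u} [CommRing R] {n κ : Type} [Fintype n] [DecidableEq n] [Fintype κ] [DecidableEq κ]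

theorem formPoly_odd : formPoly (Matrix.fromBlocks 1 0 0 (Matrix.fromBlocks 0 1 0 0) :
      Matrix (Unit ⊕ (κ ⊕ κ)) (Unit ⊕ (κ ⊕ κ)) R) =
    X (Sum.inl ()) ^ 2 + ∑ k : κ, X (Sum.inr (Sum.inl k)) * X (Sum.inr (Sum.inr k)) := by
  simp [formPoly, Fintype.sum_sum_type, Matrix.one_apply, sq]

/-- The standard affine quadric `z² + ∑ x_k y_k = b`. -/
abbrev oddRing (R : Type u) [CommRing R] (κ : Type) [Fintype κ] (b : R) : Type u :=
  MvPolynomial (Unit ⊕ (κ ⊕ κ)) R ⧸ Ideal.span
    {X (Sum.inl ()) ^ 2 + ∑ k : κ, X (Sum.inr (Sum.inl k)) * X (Sum.inr (Sum.inr k)) - C b}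

theorem nonempty_equiv_of_splitOdd (a : Matrix n n R) (h : SplitOdd a κ) (b : R) :
    Nonempty ((MvPolynomial n R ⧸ Ideal.span {formPoly a - C b}) ≃ₐ[R] oddRing R κ b) := by
  obtain ⟨g, g', h1, h2, h3⟩ := h
  refine ⟨quotEquiv (linEquiv g g' h1 h2) _ _ ?_⟩
  have h4 := formPoly_isAlt _ h3
  rw [formPoly_sub, sub_eq_zero, formPoly_odd] at h4
  rw [map_sub, linEquiv, AlgEquiv.ofAlgHom_apply, AlgEquiv.ofAlgHom_apply, linHom_formPoly, linHom_C,
    h4]

/-- **Normal form**, odd number of variables, `2` invertible: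
`R[x]/(Q - b) ≃ₐ[R] R[z, x_k, y_k]/(z² + ∑ x_k y_k - b)`. -/
theorem nonempty_quadRing_equiv_odd [HenselianLocalRing R] [IsSepClosed (ResidueField R)]
    (h2 : IsUnit (2 : R)) {N : ℕ} (m : ℕ) (hN : N = 2 * m + 1) (a : Fin N → Fin N → R)
    (ha : VanCyc.QuadNondeg a) (b : R) :
    Nonempty (VanCyc.quadRing R a b ≃ₐ[R] oddRing R (Fin m) b) := by
  have h := nonempty_equiv_of_splitOdd (upper a) (splitOdd_of_isUnit_det h2 m (Fin N)
    (by rw [Fintype.card_fin, hN]) _ (by
      rw [upper_add_transpose]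
      exact ha)) b
  rwa [formPoly_upper] at h

end Ring

end Groth.Agent.Vancyc.H686.NormalFormOdd
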