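import Mathlib.Algebra.Homology.DerivedCategory.Ext.ExactSequences
import Mathlib.CategoryTheory.Abelian.Images
import Groth.Agent.Sga4B.AcycCmp

/-!
# Bijectivity on `Ext` groups from vanishing for the kernel and the cokernel

* `bijective_comp_mk₀`: if `Ext^n(P, ker φ) = 0 = Ext^n(P, coker φ)` for all `n`, then `Ext^n(P, A) → Ext^n(P, B)`
  is bijective for all `n`.
* `cmp_bijective`: for `L ⊣ G`, `L` exact, `L F` acyclic for `G` and `Ext^n(P, F) → Ext^n(P, G L F)` bijective,
  the map `Ext^n(P, F) → Ext^n(L P, L F)` is bijective.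
-/

set_option autoImplicit false

universe w w' v v' u u'

open CategoryTheory CategoryTheory.Limits CategoryTheory.Abelian

namespace Groth.Agent.Vancyc.H686.ExtBij

section

variable {C : Type u} [Category.{v} C] [Abelian C] [HasExt.{w} C]

/-- The map `Ext^n(P, A) → Ext^n(P, B)` is bijective for a mono `A ⟶ B` with cokernel without `Ext`. -/
theorem bijective_of_shortExact_left {P : C} {S : ShortComplex C} (hS : S.ShortExact)
    (h3 : ∀ n : ℕ, Subsingleton (Ext.{w} P S.X₃ n)) (n : ℕ) :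
    Function.Bijective (fun e : Ext.{w} P S.X₁ n => e.comp (Ext.mk₀ S.f) (add_zero n)) := by
  constructor
  · intro x y hxy
    have h0 : (x - y).comp (Ext.mk₀ S.f) (add_zero n) = 0 := by
      have hxy' : x.comp (Ext.mk₀ S.f) (add_zero n) = y.comp (Ext.mk₀ S.f) (add_zero n) := hxy
      rw [sub_eq_add_neg, Ext.add_comp, Ext.neg_comp, hxy', add_neg_cancel]
    rw [← sub_eq_zero]
    rcases n with _ | n
    · obtain ⟨z, hz⟩ := (Ext.mk₀_bijective _ _).2 (x - y)
      rw [← hz, Ext.mk₀_comp_mk₀] at h0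
      have h1 : z ≫ S.f = 0 := (Ext.mk₀_bijective _ _).1 (h0.trans (Ext.mk₀_zero _ _).symm)
      have hm : Mono S.f := hS.mono_f
      rw [← hz, (cancel_mono S.f).1 (h1.trans zero_comp.symm), Ext.mk₀_zero]
    · obtain ⟨z, hz⟩ := Ext.covariant_sequence_exact₁ P hS (x - y) h0 (rfl : n + 1 = n + 1)
      have := h3 n
      rw [← hz, Subsingleton.elim z 0, Ext.zero_comp]
  · intro y
    have := h3 n
    obtain ⟨x, hx⟩ := Ext.covariant_sequence_exact₂ P hS y (Subsingleton.elim _ _)
    exact ⟨x, hx⟩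

/-- The map `Ext^n(P, B) → Ext^n(P, C)` is bijective for an epi `B ⟶ C` with kernel without `Ext`. -/
theorem bijective_of_shortExact_right {P : C} {S : ShortComplex C} (hS : S.ShortExact)
    (h1 : ∀ n : ℕ, Subsingleton (Ext.{w} P S.X₁ n)) (n : ℕ) :
    Function.Bijective (fun e : Ext.{w} P S.X₂ n => e.comp (Ext.mk₀ S.g) (add_zero n)) := by
  constructor
  · intro x y hxy
    have h0 : (x - y).comp (Ext.mk₀ S.g) (add_zero n) = 0 := by
      have hxy' : x.comp (Ext.mk₀ S.g) (add_zero n) = y.comp (Ext.mk₀ S.g) (add_zero n) := hxy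
      rw [sub_eq_add_neg, Ext.add_comp, Ext.neg_comp, hxy', add_neg_cancel]
    rw [← sub_eq_zero]
    obtain ⟨z, hz⟩ := Ext.covariant_sequence_exact₂ P hS (x - y) h0
    have := h1 n
    rw [← hz, Subsingleton.elim z 0, Ext.zero_comp]
  · intro y
    have := h1 (n + 1)
    obtain ⟨x, hx⟩ := Ext.covariant_sequence_exact₃ P hS y (rfl : n + 1 = n + 1)
      (Subsingleton.elim _ _)
    exact ⟨x, hx⟩

/-- Bijectivity on `Ext` from vanishing for the kernel and the cokernel. -/
theorem bijective_comp_mk₀ (P : C) {A B : C} (φ : A ⟶ B)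
    (hk : ∀ n : ℕ, Subsingleton (Ext.{w} P (kernel φ) n))
    (hc : ∀ n : ℕ, Subsingleton (Ext.{w} P (cokernel φ) n)) (n : ℕ) :
    Function.Bijective (fun e : Ext.{w} P A n => e.comp (Ext.mk₀ φ) (add_zero n)) := by
  let S₁ : ShortComplex C := ShortComplex.mk (kernel.ι φ) (Abelian.coimage.π φ)
    (cokernel.condition (kernel.ι φ))
  have hS₁ : S₁.ShortExact :=
    { exact := ShortComplex.exact_of_g_is_cokernel _ (cokernelIsCokernel (kernel.ι φ)) }
  let S₂ : ShortComplex C := ShortComplex.mk (Abelian.factorThruCoimage φ) (cokernel.π φ) (by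
    rw [← cancel_epi (Abelian.coimage.π φ), comp_zero, ← Category.assoc, Abelian.coimage.fac,
      cokernel.condition])
  have hS₂ : S₂.ShortExact := by
    refine { exact := ?_ }
    have h1 : S₂.Exact := by
      have h2 := ShortComplex.exact_of_g_is_cokernel (ShortComplex.mk φ (cokernel.π φ)
        (cokernel.condition φ)) (cokernelIsCokernel φ)
      refine (ShortComplex.exact_iff_of_epi_of_isIso_of_mono
        { τ₁ := Abelian.coimage.π φ
          τ₂ := 𝟙 B
          τ₃ := 𝟙 _
          comm₁₂ := (Abelian.coimage.fac φ).trans (Category.comp_id _).symm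
          comm₂₃ := (Category.id_comp _).trans (Category.comp_id _).symm :
          ShortComplex.mk φ (cokernel.π φ) (cokernel.condition φ) ⟶ S₂}).1 h2
    exact h1
  have b1 := bijective_of_shortExact_right (P := P) hS₁ hk n
  have b2 := bijective_of_shortExact_left (P := P) hS₂ hc n
  have h : (fun e : Ext.{w} P A n => e.comp (Ext.mk₀ φ) (add_zero n)) =
      (fun e : Ext.{w} P S₂.X₁ n => e.comp (Ext.mk₀ S₂.f) (add_zero n)) ∘
        (fun e : Ext.{w} P S₁.X₂ n => e.comp (Ext.mk₀ S₁.g) (add_zero n)) := by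
    funext e
    simp only [Function.comp_apply]
    rw [Ext.comp_assoc_of_third_deg_zero, Ext.mk₀_comp_mk₀]
    exact congrArg (fun t => e.comp (Ext.mk₀ t) (add_zero n)) (Abelian.coimage.fac φ).symm
  rw [h]
  exact b2.comp b1

end

section

open Groth.Agent.EtpbcB.Acyc Groth.Agent.Sga4B Groth.Agent.Sga4B.AcycCmp

variable {C : Type u} [Category.{v} C] [Abelian C] [HasExt.{w} C]
variable {D : Type u'} [Category.{v'} D] [Abelian D] [HasExt.{w'} D]
variable {L : C ⥤ D} {G : D ⥤ C} [L.Additive] [PreservesFiniteLimits L] [PreservesFiniteColimits L]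
  (adj : L ⊣ G)

/-- Variant of `AcycCmp.cmp_bijective` where the unit is only bijective on `Ext` groups. -/
theorem cmp_bijective [G.Additive] [HasInjectiveResolutions D] [EnoughInjectives D] {P : C} {B : D}
    (b : B ⟶ L.obj P) [IsIso b] (F : C)
    (hu : ∀ n : ℕ, Function.Bijective (fun e : Ext.{w} P F n =>
      e.comp (Ext.mk₀ (adj.unit.app F)) (add_zero n)))
    (hF : Acyclic G (L.obj F)) (n : ℕ) :
    Function.Bijective (ExtCmp.cmp.{w, w'} L b F n) := by
  have h1 : ∀ e : Ext.{w} P F n, ExtCmp.cmp.{w, w'} L b F n e =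
      (Ext.mk₀ b).comp (psi adj P (L.obj F) n (e.comp (Ext.mk₀ (adj.unit.app F)) (add_zero n)))
        (zero_add n) := by
    intro e
    rw [ExtCmp.cmp_apply, psi_apply, Ext.mapExactFunctor_comp, Ext.mapExactFunctor_mk₀,
      Ext.comp_assoc_of_third_deg_zero, Ext.mk₀_comp_mk₀, adj.left_triangle_components,
      Ext.comp_mk₀_id]
  have h2 := psi_bijective.{w, w'} adj P n (L.obj F) hF
  have h3 := hu n
  have h4 : Function.Bijective (fun e : Ext.{w'} (L.obj P) (L.obj F) n =>
      (Ext.mk₀ b).comp e (zero_add n)) := by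
    refine Function.bijective_iff_has_inverse.2 ⟨fun e => (Ext.mk₀ (inv b)).comp e (zero_add n), ?_, ?_⟩
    · intro e
      change (Ext.mk₀ (inv b)).comp ((Ext.mk₀ b).comp e (zero_add n)) (zero_add n) = e
      rw [← Ext.comp_assoc_of_second_deg_zero, Ext.mk₀_comp_mk₀, IsIso.inv_hom_id, Ext.mk₀_id_comp]
    · intro e
      change (Ext.mk₀ b).comp ((Ext.mk₀ (inv b)).comp e (zero_add n)) (zero_add n) = e
      rw [← Ext.comp_assoc_of_second_deg_zero, Ext.mk₀_comp_mk₀, IsIso.hom_inv_id, Ext.mk₀_id_comp]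
  have h5 : (ExtCmp.cmp.{w, w'} L b F n : Ext.{w} P F n → Ext.{w'} B (L.obj F) n) =
      (fun e : Ext.{w'} (L.obj P) (L.obj F) n => (Ext.mk₀ b).comp e (zero_add n)) ∘
        (psi adj P (L.obj F) n) ∘
        (fun e : Ext.{w} P F n => e.comp (Ext.mk₀ (adj.unit.app F)) (add_zero n)) := by
    funext e
    exact h1 e
  rw [h5]
  exact h4.comp (h2.comp h3)

end

end Groth.Agent.Vancyc.H686.ExtBij
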