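import Groth.Agent.Vancyc.H686.Van
import Groth.Agent.Vancyc.H686.ExtBij
import Groth.Agent.EtpbcA.LAUnit
import Groth.Agent.Sga4h.ConsWO
import Groth.Agent.S0620
import Groth.Agent.EtpbcB.PBCVan
import Groth.Agent.EtpbcB.StrictHensTransport
import Groth.Agent.S0073

/-!
# `Van` over a strictly henselian local ring

`S = Spec R`, `R` strictly henselian local.
* `allZero_iff`: `H^q(S, C) = 0` for all `q` iff `C` has zero stalk at the closed point.
* `subsingleton_H0_Rpush`: `H^n(X, F) = 0` implies `Γ(S, R^n f_* F) = 0`.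
* `Van.prod`: `Y ×_S Z` for `Y ⟶ S` with smooth base change, `Z ⟶ S` qcqs.
* `bijective_Hpull`: `H^q(Y, G|Y) → H^q(Y_T, G|Y_T)` is bijective.
-/

set_option autoImplicit false
universe u
open CategoryTheory CategoryTheory.Limits AlgebraicGeometry Opposite

namespace Groth.Agent.Vancyc.H686.VanSH

open Groth.Agent.Vancyc.H686.VanMV Groth.Agent.Vancyc.H686.Van Groth.Agent.EtpbcB.NKillEt
  Groth.Agent.Sga4B Groth.Agent.Etbase

section general

variable {X Y S : Scheme.{u}}

/-- `H^0` is the group of global sections. -/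
theorem subsingleton_H0_iff (F : EtCoh.Ab X) :
    Subsingleton (EtCoh.H X F 0) ↔ Subsingleton (EtCoh.sect F (EtCoh.top X)) :=
  (Sheaf.H.equiv₀ F (EtCore.topIsTerminal X)).toEquiv.subsingleton_congr

/-- Leray vanishing. -/
theorem allZero_of_leray (f : X ⟶ Y) (F : EtCoh.Ab X)
    (h : ∀ q : ℕ, AllZero ((EtCoh.Rpush f q).obj F)) : AllZero F := by
  intro n
  have h0 : AllZero ((EtCoh.push f).obj F) := (h 0).of_iso ((EtCoh.push f).rightDerivedZeroIsoSelf.app F)
  exact EtpbcA.CdEtLeray.H_subsingleton_of_leray f F n (h0 n) fun p q _ => h (q + 1) p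

/-- `EtCore.Hpull` is bijective if the unit is bijective on cohomology and the inverse image is acyclic. -/
theorem bijective_Hpull_of_unit (f : X ⟶ Y) [PreservesFiniteLimits (EtCoh.pull f)] (F : EtCoh.Ab Y)
    (hk : AllZero (kernel ((EtCoh.pullPushAdj f).unit.app F)))
    (hc : AllZero (cokernel ((EtCoh.pullPushAdj f).unit.app F)))
    (h : ∀ q : ℕ, 0 < q → IsZero ((EtCoh.Rpush f q).obj ((EtCoh.pull f).obj F))) (q : ℕ) :
    Function.Bijective (EtCore.Hpull f F q) := by
  rw [Groth.Agent.Sga4B.HpullSquare.Hpull_eq_cmp]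
  exact ExtBij.cmp_bijective (EtCoh.pullPushAdj f) (EtCore.pullConst f ℤ).inv F
    (fun n => ExtBij.bijective_comp_mk₀ _ _ hk hc n) h q

end general

section SH

variable {R : Type u} [CommRing R] [HenselianLocalRing R] [IsSepClosed (IsLocalRing.ResidueField R)]

local notation "SS" => Spec (CommRingCat.of R)

theorem allZero_of_H0 (C : EtCoh.Ab SS) (h : Subsingleton (EtCoh.H SS C 0)) : AllZero C := by
  intro q
  rcases q with _ | q
  · exact h
  · exact Groth.Agent.S0073.result R C (q + 1) (Nat.succ_pos q)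

theorem subsingleton_H0_iff_stalk (C : EtCoh.Ab SS) :
    Subsingleton (EtCoh.H SS C 0) ↔
      Subsingleton ((EtCoh.stalk (StrictHensPoint.pt R)).obj C : AddCommGrpCat.{u + 1}) := by
  rw [subsingleton_H0_iff]
  exact (Equiv.ofBijective _ (StrictHensPoint.bijective_toPresheafFiber R C.obj)).subsingleton_congr

theorem allZero_iff (C : EtCoh.Ab SS) :
    AllZero C ↔ IsZero ((EtCoh.stalk (StrictHensPoint.pt R)).obj C) := by
  constructor
  · intro h
    have := (subsingleton_H0_iff_stalk C).1 (h 0)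
    exact AddCommGrpCat.isZero_of_subsingleton _
  · intro h
    exact allZero_of_H0 C ((subsingleton_H0_iff_stalk C).2 (AddCommGrpCat.subsingleton_of_isZero h))

theorem allZero_iff_pull (C : EtCoh.Ab SS) :
    AllZero C ↔ IsZero ((EtCoh.pull (StrictHensPoint.pt R)).obj C) := by
  rw [allZero_iff]
  constructor
  · intro h
    refine Etcore.Stalks.isZero_of_stalks _ fun x => ?_
    refine ⟨_, inferInstance, inferInstance, 𝟙 _,
      Subsingleton.elim (α := Spec (CommRingCat.of (IsLocalRing.ResidueField R))) _ _, ?_⟩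
    have h5 : 𝟙 _ ≫ StrictHensPoint.pt R = StrictHensPoint.pt R := Category.id_comp _
    have h4 : IsZero ((EtCoh.stalk (𝟙 _ ≫ StrictHensPoint.pt R)).obj C) := by
      rw [h5]
      exact h
    exact h4.of_iso ((StalkPull.stalkPullIso (StrictHensPoint.pt R) (𝟙 _)).app C).symm
  · intro h
    have h3 := (EtCoh.stalk (𝟙 _)).map_isZero h
    have h4 := h3.of_iso ((StalkPull.stalkPullIso (StrictHensPoint.pt R) (𝟙 _)).app _)
    have h5 : 𝟙 _ ≫ StrictHensPoint.pt R = StrictHensPoint.pt R := Category.id_comp _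
    rw [h5] at h4
    exact h4

/-- `H^n(X, F) = 0` implies `Γ(S, R^n f_* F) = 0`. -/
theorem subsingleton_H0_Rpush {X : Scheme.{u}} (f : X ⟶ SS) [QuasiCompact f] [QuasiSeparated f]
    (F : EtCoh.Ab X) (n : ℕ) (h : Subsingleton (EtCoh.H X F n)) :
    Subsingleton (EtCoh.H SS ((EtCoh.Rpush f n).obj F) 0) := by
  obtain ⟨i1, i2, i3, h1⟩ := EtpbcB.StrictHensTransport.exists_specOf_closedPoint R
  obtain ⟨e⟩ := S0620.result f F (IsLocalRing.closedPoint R : SS) R n
  have h2 : Subsingleton (EtCoh.H (pullback f (Hens2.specOf SS (IsLocalRing.closedPoint R) R))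
      ((EtCoh.pull (pullback.fst f (Hens2.specOf SS (IsLocalRing.closedPoint R) R))).obj F) n) := by
    have h3 : EtpbcB.PBCVan.Van f (𝟙 SS) F n := (EtpbcB.PBCVan.van_id f F n).2 h
    rw [← h1] at h3
    exact h3
  have h3 : IsZero ((EtCoh.stalk (Hens2.geomPt SS (IsLocalRing.closedPoint R) R)).obj
      ((EtCoh.Rpush f n).obj F)) := by
    refine IsZero.of_iso ?_ e
    exact @AddCommGrpCat.isZero_of_subsingleton _ h2
  have h4 : Hens2.geomPt SS (IsLocalRing.closedPoint R) R = StrictHensPoint.pt R := by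
    rw [Hens2.geomPt, h1]
    exact Category.comp_id _
  rw [h4] at h3
  rw [subsingleton_H0_iff_stalk]
  exact AddCommGrpCat.subsingleton_of_isZero h3

/-- Higher direct images on `S` of a sheaf without cohomology have no cohomology. -/
theorem allZero_Rpush {X : Scheme.{u}} (f : X ⟶ SS) [QuasiCompact f] [QuasiSeparated f]
    (F : EtCoh.Ab X) (h : AllZero F) (n : ℕ) : AllZero ((EtCoh.Rpush f n).obj F) :=
  allZero_of_H0 _ (subsingleton_H0_Rpush f F n (h n))

/-- Products: `Y ×_S Z` for `Y ⟶ S` satisfying smooth base change and `Z ⟶ S` qcqs. -/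
theorem van_prod_of_bc {N : ℕ} {Y Z P : Scheme.{u}} {f : Y ⟶ SS} {r : Z ⟶ SS} {p : P ⟶ Y} {e : P ⟶ Z}
    (w : e ≫ r = p ≫ f) [QuasiCompact r] [QuasiSeparated r]
    (bc : ∀ F : EtCoh.Ab Z, EtCoh.KilledBy N F → ∀ q : ℕ,
      Nonempty ((EtCoh.pull f).obj ((EtCoh.Rpush r q).obj F) ≅
        (EtCoh.Rpush p q).obj ((EtCoh.pull e).obj F)))
    (hY : Van N f) (hZ : Van N r) : Van N (p ≫ f) := by
  intro C hC h0
  have hF : EtCoh.KilledBy N ((EtCoh.pull r).obj C) := killedBy_pull r hC
  have h1 : AllZero ((EtCoh.pull e).obj ((EtCoh.pull r).obj C)) := by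
    refine allZero_of_leray p _ fun q => ?_
    obtain ⟨i⟩ := bc _ hF q
    refine AllZero.of_iso (hY _ (Sga4h.ConsWO.killedBy_rpush r hF q) ?_) i
    exact allZero_Rpush r _ (hZ C hC h0) q
  exact (allZero_comp w).1 h1

/-- Bijectivity of the pull-back from `Y` to `Y ×_S T`. -/
theorem bijective_Hpull {N : ℕ} {Y T P : Scheme.{u}} {f : Y ⟶ SS} {g : T ⟶ SS} {h : P ⟶ Y}
    {e : P ⟶ T} (w : e ≫ g = h ≫ f) [PreservesFiniteLimits (EtCoh.pull h)] (hY : Van N f)
    (G : EtCoh.Ab SS) (hG : EtCoh.KilledBy N G)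
    (hu : EtpbcB.BCIso.BijAt ((EtCoh.pullPushAdj g).unit.app G) (EtCoh.top SS))
    (hg : ∀ q : ℕ, 0 < q → IsZero ((EtCoh.Rpush g q).obj ((EtCoh.pull g).obj G)))
    (bc : ∀ q : ℕ, Nonempty ((EtCoh.pull f).obj ((EtCoh.Rpush g q).obj ((EtCoh.pull g).obj G)) ≅
        (EtCoh.Rpush h q).obj ((EtCoh.pull e).obj ((EtCoh.pull g).obj G))))
    (bc0 : IsIso (EtCoh.baseChange0 g f h e w ((EtCoh.pull g).obj G))) (q : ℕ) :
    Function.Bijective (EtCore.Hpull h ((EtCoh.pull f).obj G) q) := by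
  let u : G ⟶ (EtCoh.push g).obj ((EtCoh.pull g).obj G) := (EtCoh.pullPushAdj g).unit.app G
  have hiso : IsIso ((EtCoh.pull (StrictHensPoint.pt R)).map u) :=
    (EtpbcA.LA.bijAt_top_iff_pull (StrictHensPoint.pt R) (by
      have h : (default : Spec (CommRingCat.of (IsLocalRing.ResidueField R))) =
          (IsLocalRing.closedPoint (IsLocalRing.ResidueField R) : PrimeSpectrum _) :=
        Subsingleton.elim (α := Spec (CommRingCat.of (IsLocalRing.ResidueField R))) _ _
      rw [h]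
      exact IsLocalRing.comap_closedPoint (IsLocalRing.residue R)) u).1 hu
  have hker : AllZero (kernel u) := by
    rw [allZero_iff_pull]
    refine IsZero.of_iso ?_ (PreservesKernel.iso (EtCoh.pull (StrictHensPoint.pt R)) u)
    exact isZero_kernel_of_mono _
  have hcok : AllZero (cokernel u) := by
    rw [allZero_iff_pull]
    refine IsZero.of_iso ?_ (PreservesCokernel.iso (EtCoh.pull (StrictHensPoint.pt R)) u)
    exact isZero_cokernel_of_epi _
  have kG : EtCoh.KilledBy N ((EtCoh.push g).obj ((EtCoh.pull g).obj G)) :=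
    killedBy_push g (killedBy_pull g hG)
  have kker : EtCoh.KilledBy N (kernel u) := by
    rw [killedBy_iff] at hG ⊢
    exact EtpbcB.NKill.killed_of_mono (kernel.ι u) hG
  have kcok : EtCoh.KilledBy N (cokernel u) := by
    rw [killedBy_iff] at kG ⊢
    exact EtpbcB.NKill.killed_of_epi (cokernel.π u) kG
  have hkerY := hY _ kker hker
  have hcokY := hY _ kcok hcok
  -- the unit of `h` is `f⁻¹ u` up to isomorphism
  have hunit := EtpbcA.LA.pull_unit_baseChange0 w G
  have hunit' : (EtCoh.pullPushAdj h).unit.app ((EtCoh.pull f).obj G) =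
      (EtCoh.pull f).map u ≫ EtCoh.baseChange0 g f h e w ((EtCoh.pull g).obj G) ≫
        inv ((EtCoh.push h).map ((EtpbcA.LA.kap w).hom.app G)) := by
    rw [← Category.assoc, IsIso.eq_comp_inv]
    exact hunit.symm
  refine bijective_Hpull_of_unit h _ ?_ ?_ ?_ q
  · have e1 : kernel ((EtCoh.pullPushAdj h).unit.app ((EtCoh.pull f).obj G)) ≅
        kernel ((EtCoh.pull f).map u) :=
      kernelIsoOfEq hunit' ≪≫ kernelCompMono _ _
    exact hkerY.of_iso ((PreservesKernel.iso (EtCoh.pull f) u) ≪≫ e1.symm)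
  · have e1 : cokernel ((EtCoh.pullPushAdj h).unit.app ((EtCoh.pull f).obj G)) ≅
        cokernel ((EtCoh.pull f).map u) :=
      cokernelIsoOfEq hunit' ≪≫ cokernelCompIsIso _ _
    exact hcokY.of_iso ((PreservesCokernel.iso (EtCoh.pull f) u) ≪≫ e1.symm)
  · intro q hq
    obtain ⟨i⟩ := bc q
    have h1 : IsZero ((EtCoh.Rpush h q).obj ((EtCoh.pull e).obj ((EtCoh.pull g).obj G))) :=
      ((EtCoh.pull f).map_isZero (hg q hq)).of_iso i.symm
    exact h1.of_iso ((EtCoh.Rpush h q).mapIso ((EtpbcA.LA.kap w).app G))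

end SH

end Groth.Agent.Vancyc.H686.VanSH
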