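import Groth.Agent.Vancyc.H686.EvenFib
import Groth.Agent.Sga4B.PurityMainB

/-!
# Cohomology of the standard even-dimensional quadric (unconditional form)
-/

set_option autoImplicit false
universe u

open CategoryTheory CategoryTheory.Limits AlgebraicGeometry

namespace Groth.Agent.Vancyc.H686.EvenMain

open Groth.Agent.Vancyc.H685.StdModel Groth.Agent.Vancyc.H686.EvenFib

variable {Ω : Type u} [Field Ω] [IsSepClosed Ω] (m : ℕ) (hm : 0 < m) {N : ℕ} (hN : (N : Ω) ≠ 0)

include hm hN in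
/-- **Cohomology of the standard quadric of dimension `2m`** over a separably closed field. -/
theorem H_std :
    (∀ q : ℕ, q ≠ 0 → q ≠ 2 * m → Subsingleton (EtCoh.H (Spec (CommRingCat.of (stdRing Ω m)))
        (EtCoh.const (Spec (CommRingCat.of (stdRing Ω m))) (ZMod N)) q)) ∧
      Nonempty (EtCoh.H (Spec (CommRingCat.of (stdRing Ω m)))
        (EtCoh.const (Spec (CommRingCat.of (stdRing Ω m))) (ZMod N)) (2 * m) ≃+ ZMod N) ∧
      Nonempty (EtCoh.H (Spec (CommRingCat.of (stdRing Ω m)))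
        (EtCoh.const (Spec (CommRingCat.of (stdRing Ω m))) (ZMod N)) 0 ≃+ ZMod N) :=
  sph_std m hm hN (Sga4B.PurityMainB.stmtLine N)

include hm hN in
/-- **Cohomology of the geometric fibres of the standard quadric of relative dimension `2m`**. -/
theorem H_fib (R : Type u) [CommRing R] [Algebra R Ω] :
    (∀ q : ℕ, q ≠ 0 → q ≠ 2 * m → Subsingleton (EtCoh.H (VanCyc.fib R (stdStr R m) Ω)
        (EtCoh.const (VanCyc.fib R (stdStr R m) Ω) (ZMod N)) q)) ∧
      Nonempty (EtCoh.H (VanCyc.fib R (stdStr R m) Ω)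
        (EtCoh.const (VanCyc.fib R (stdStr R m) Ω) (ZMod N)) (2 * m) ≃+ ZMod N) ∧
      Nonempty (EtCoh.H (VanCyc.fib R (stdStr R m) Ω)
        (EtCoh.const (VanCyc.fib R (stdStr R m) Ω) (ZMod N)) 0 ≃+ ZMod N) :=
  sph_fib m hm hN R (Sga4B.PurityMainB.stmtLine N)

end Groth.Agent.Vancyc.H686.EvenMain
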