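import Mathlib.AlgebraicGeometry.Pullbacks
import Mathlib.AlgebraicGeometry.Morphisms.Smooth
import Mathlib.AlgebraicGeometry.AffineSpace

/-!
# Punctured affine spaces over a ring

* `isPullback_of_univ`: cartesian squares of affine schemes from the universal property of push-outs of rings;
* `A n R = Spec R[x_1, …, x_n]`, `punct n R : (A n R).Opens` the complement of the zero section;
* `isPullback_succ`: `A (n + 1) R = A¹ ×_{Spec R} A n R`;
* `punct_succ`: `punct (n + 1) = (G_m × A n) ∪ (A¹ × punct n)`.
-/

set_option autoImplicit false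
universe u

open CategoryTheory CategoryTheory.Limits AlgebraicGeometry MvPolynomial

namespace Groth.Agent.Vancyc.H686.GeoR

/-- Cartesian squares of spectra from the universal property. -/
theorem isPullback_of_univ {R A B P : Type u} [CommRing R] [CommRing A] [CommRing B] [CommRing P]
    (a : R →+* A) (b : R →+* B) (c : A →+* P) (d : B →+* P) (w : c.comp a = d.comp b)
    (h : ∀ (T : Type u) [CommRing T] (f : A →+* T) (g : B →+* T), f.comp a = g.comp b →
      ∃ k : P →+* T, k.comp c = f ∧ k.comp d = g)
    (hu : ∀ (T : Type u) [CommRing T] (k k' : P →+* T), k.comp c = k'.comp c → k.comp d = k'.comp d →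
      k = k') :
    IsPullback (Spec.map (CommRingCat.ofHom c)) (Spec.map (CommRingCat.ofHom d))
      (Spec.map (CommRingCat.ofHom a)) (Spec.map (CommRingCat.ofHom b)) := by
  refine isPullback_SpecMap_of_isPushout _ _ _ _ ?_
  have w' : CommRingCat.ofHom a ≫ CommRingCat.ofHom c = CommRingCat.ofHom b ≫ CommRingCat.ofHom d := by
    rw [← CommRingCat.ofHom_comp, ← CommRingCat.ofHom_comp, w]
  refine IsPushout.of_isColimit (c := PushoutCocone.mk _ _ w') ?_
  have hs : ∀ s : PushoutCocone (CommRingCat.ofHom a) (CommRingCat.ofHom b),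
      s.inl.hom.comp a = s.inr.hom.comp b := fun s => congrArg CommRingCat.Hom.hom s.condition
  refine PushoutCocone.IsColimit.mk w' (fun s => CommRingCat.ofHom (h s.pt s.inl.hom s.inr.hom
    (hs s)).choose) (fun s => ?_) (fun s => ?_) (fun s m h1 h2 => ?_)
  · have := (h s.pt s.inl.hom s.inr.hom (hs s)).choose_spec.1
    exact CommRingCat.hom_ext this
  · have := (h s.pt s.inl.hom s.inr.hom (hs s)).choose_spec.2
    exact CommRingCat.hom_ext this
  · have h3 := (h s.pt s.inl.hom s.inr.hom (hs s)).choose_spec
    apply CommRingCat.hom_ext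
    refine hu s.pt _ _ ?_ ?_
    · exact (congrArg CommRingCat.Hom.hom h1).trans h3.1.symm
    · exact (congrArg CommRingCat.Hom.hom h2).trans h3.2.symm

/-- Basic opens. -/
noncomputable def bo {B : Type u} [CommRing B] (f : B) : (Spec (CommRingCat.of B)).Opens :=
  PrimeSpectrum.basicOpen f

theorem mem_bo {B : Type u} [CommRing B] (f : B) (x : Spec (CommRingCat.of B)) :
    x ∈ bo f ↔ f ∉ x.asIdeal := Iff.rfl

theorem isCompact_bo {B : Type u} [CommRing B] (f : B) :
    IsCompact (bo f : Set (Spec (CommRingCat.of B))) := PrimeSpectrum.isCompact_basicOpen _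

section Affine

variable (n : ℕ) (R : Type u) [CommRing R]

/-- Affine space `Spec R[x_1, …, x_n]`. -/
noncomputable abbrev A : Scheme.{u} := Spec (CommRingCat.of (MvPolynomial (Fin n) R))

/-- The structure morphism of affine space. -/
noncomputable abbrev str : A n R ⟶ Spec (CommRingCat.of R) := Spec.map (CommRingCat.ofHom C)

/-- The affine line. -/
noncomputable abbrev L : Scheme.{u} := Spec (CommRingCat.of (Polynomial R))

/-- The structure morphism of the affine line. -/
noncomputable abbrev strL : L R ⟶ Spec (CommRingCat.of R) := Spec.map (CommRingCat.ofHom Polynomial.C)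

/-- The first coordinate `A^{n+1} ⟶ A¹`. -/
noncomputable abbrev pr : A (n + 1) R ⟶ L R :=
  Spec.map (CommRingCat.ofHom (Polynomial.eval₂RingHom C (X 0)))

/-- The other coordinates `A^{n+1} ⟶ A^n`. -/
noncomputable abbrev tl : A (n + 1) R ⟶ A n R :=
  Spec.map (CommRingCat.ofHom (rename (R := R) (Fin.succ : Fin n → Fin (n + 1))).toRingHom)

theorem isPullback_succ : IsPullback (pr n R) (tl n R) (strL R) (str n R) := by
  refine isPullback_of_univ _ _ _ _ ?_ ?_ ?_
  · ext r
    simp
  · intro T _ f g h
    refine ⟨eval₂Hom (g.comp C) (Fin.cons (f Polynomial.X) fun i => g (X i)), ?_, ?_⟩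
    · refine Polynomial.ringHom_ext' ?_ ?_
      · rw [h]
        ext r
        simp
      · simp
    · refine MvPolynomial.ringHom_ext ?_ ?_
      · intro r
        simp
      · intro i
        simp
  · intro T _ k k' h1 h2
    refine MvPolynomial.ringHom_ext ?_ ?_
    · intro r
      have := RingHom.congr_fun h2 (C r)
      simpa using this
    · intro i
      rcases Fin.eq_zero_or_eq_succ i with rfl | ⟨j, rfl⟩
      · have := RingHom.congr_fun h1 Polynomial.X
        simpa using this
      · have := RingHom.congr_fun h2 (X j)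
        simpa using this

/-- The complement of the zero section of affine space. -/
noncomputable def punct : (A n R).Opens := ⨆ i : Fin n, bo (X i : MvPolynomial (Fin n) R)

theorem mem_punct (x : A n R) :
    x ∈ punct n R ↔ ∃ i : Fin n, x ∈ bo (X i : MvPolynomial (Fin n) R) := by
  unfold punct
  exact TopologicalSpace.Opens.mem_iSup

theorem isCompact_punct : IsCompact (punct n R : Set (A n R)) := by
  have : (punct n R : Set (A n R)) =
      ⋃ i : Fin n, (bo (X i : MvPolynomial (Fin n) R) : Set (A n R)) := by
    unfold punct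
    exact TopologicalSpace.Opens.coe_iSup _
  rw [this]
  exact isCompact_iUnion fun i => isCompact_bo _

/-- The complement of the zero section of the affine line. -/
noncomputable def gm : (L R).Opens := bo (Polynomial.X : Polynomial R)

theorem isCompact_gm : IsCompact (gm R : Set (L R)) := isCompact_bo _

theorem punct_succ : punct (n + 1) R = (pr n R ⁻¹ᵁ gm R) ⊔ (tl n R ⁻¹ᵁ punct n R) := by
  apply TopologicalSpace.Opens.ext
  ext x
  have h1 : x ∈ pr n R ⁻¹ᵁ gm R ↔ x ∈ bo (X 0 : MvPolynomial (Fin (n + 1)) R) := by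
    have : (Polynomial.eval₂RingHom C (X 0)) Polynomial.X = (X 0 : MvPolynomial (Fin (n + 1)) R) := by
      simp
    rw [← this]
    exact Iff.rfl
  have h2 : x ∈ tl n R ⁻¹ᵁ punct n R ↔
      ∃ i : Fin n, x ∈ bo (X i.succ : MvPolynomial (Fin (n + 1)) R) := by
    have h3 : x ∈ tl n R ⁻¹ᵁ punct n R ↔ tl n R x ∈ punct n R := Iff.rfl
    rw [h3, mem_punct]
    refine exists_congr fun i => ?_
    have : (rename (R := R) (Fin.succ : Fin n → Fin (n + 1))).toRingHom (X i) =
        (X i.succ : MvPolynomial (Fin (n + 1)) R) := by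
      simp
    rw [← this]
    exact Iff.rfl
  change x ∈ punct (n + 1) R ↔ x ∈ (pr n R ⁻¹ᵁ gm R) ⊔ (tl n R ⁻¹ᵁ punct n R)
  rw [mem_punct, Fin.exists_fin_succ, ← h1, ← h2]
  exact Iff.rfl

theorem punct_zero : punct 0 R = ⊥ := by
  unfold punct
  exact iSup_of_empty _

end Affine

end Groth.Agent.Vancyc.H686.GeoR
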