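import Groth.Agent.Vancyc.H686.VanSH
import Groth.Agent.Vancyc.H675.AcycPt
import Groth.Agent.EtpbcB.HRel
import Groth.Agent.S0162
import Groth.Prelude.Def_VanCyc

/-!
# Restriction to the geometric generic fibre is bijective for `Van` schemes, and the Galois action is trivial

`S = Spec R`, `R` strictly henselian local, `N` invertible in `R`, `f : Y ⟶ S` smooth with `Van N f`.
* `bijective_Hpull_point`: `H^q(Y, M) → H^q(Y_Ω, M)` is bijective for every constant sheaf `M` killed by `N`;
* `galH_eq_id`: if `X_Ω ⟶ X` factors through an open subscheme `Y ⊆ X` with `Y ⟶ S` smooth and `Van N`, then the Galois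
  action on `H^q(X_Ω, M)` is trivial.
-/

set_option autoImplicit false
universe u
open CategoryTheory CategoryTheory.Limits AlgebraicGeometry Opposite

namespace Groth.Agent.Vancyc.H686.GenFib

open Groth.Agent.Vancyc.H686.VanMV Groth.Agent.Vancyc.H686.Van Groth.Agent.Vancyc.H686.VanSH
  Groth.Agent.Sga4B Groth.Agent.Vancyc.H675.AcycPt

variable {R : Type u} [CommRing R] [HenselianLocalRing R] [IsSepClosed (IsLocalRing.ResidueField R)]

/-- The restriction to a geometric fibre. -/
theorem bijective_Hpull_point {N : ℕ} (hN : IsUnit (N : Γ(Spec (CommRingCat.of R), ⊤)))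
    {Ω : Type u} [Field Ω] [IsSepClosed Ω] (g : Spec (CommRingCat.of Ω) ⟶ Spec (CommRingCat.of R))
    {Y P : Scheme.{u}} {f : Y ⟶ Spec (CommRingCat.of R)} [Smooth f] {h : P ⟶ Y}
    {e : P ⟶ Spec (CommRingCat.of Ω)} (sq : IsPullback e h g f) (hY : Van N f)
    [PreservesFiniteLimits (EtCoh.pull h)] (M : AddCommGrpCat.{u + 1}) (hM : ∀ m : M, N • m = 0)
    (q : ℕ) : Function.Bijective (EtCore.Hpull h ((constU Y).obj M) q) := by
  let G := (constU (Spec (CommRingCat.of R))).obj M
  have hG : EtCoh.KilledBy N G := killedBy_constU _ N M hM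
  have hF' : EtPBC.IsTorsionInvertibleOn (Spec (CommRingCat.of R)) ((EtCoh.pull g).obj G) :=
    isTorsionInvertibleOn_of_killedBy _ N hN _ (EtpbcB.NKillEt.killedBy_pull g hG)
  have hlim : PreservesFiniteLimits (EtCoh.pull g) := Groth.Agent.S0101.result g
  have hconn := preconnectedSpace_spec R
  have hu : EtpbcB.BCIso.BijAt ((EtCoh.pullPushAdj g).unit.app G)
      (EtCoh.top (Spec (CommRingCat.of R))) :=
    (EtpbcA.LA.bijective_Hpull_zero_iff g _).1 (bijective_Hpull_zero g M)
  refine (Etrest.HpullConst.bijective_Hpull_iff_of_iso h q (pullConstU f M)).1 ?_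
  exact bijective_Hpull sq.w hY G hG hu
    (fun q hq => Etcore.NormalAcyclic.isZero_Rpush_point g _ q hq)
    (fun q => (Groth.Agent.S0162.result f g h e sq _ hF' q).1)
    (Groth.Agent.S0162.result f g h e sq _ hF' 0).2 q

section Gal

variable {K : Type u} [Field K] [Algebra R K] {Ω : Type u} [Field Ω] [IsSepClosed Ω]
  [Algebra K Ω] [Algebra R Ω] [IsScalarTower R K Ω]
  {X : Scheme.{u}} (f : X ⟶ Spec (CommRingCat.of R))

/-- The Galois action on the cohomology of the geometric generic fibre is trivial if the latter is the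
geometric generic fibre of an open subscheme which is smooth over the base and preserves vanishing. -/
theorem galH_eq_id {N : ℕ} (hN : IsUnit (N : Γ(Spec (CommRingCat.of R), ⊤))) {Y : Scheme.{u}}
    (j : Y ⟶ X) [Mono j] [Smooth (j ≫ f)] (hY : Van N (j ≫ f))
    (l : VanCyc.fib R f Ω ⟶ Y) (hl : l ≫ j = VanCyc.jA R f Ω) (σ : Ω ≃ₐ[K] Ω)
    [PreservesFiniteLimits (EtCoh.pull (VanCyc.galGeom f σ))]
    (M : AddCommGrpCat.{u + 1}) (hM : ∀ m : M, N • m = 0) (q : ℕ) :
    VanCyc.galH f σ ((constU X).obj M) q = AddMonoidHom.id _ := by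
  have hlim : PreservesFiniteLimits (EtCoh.pull l) := Groth.Agent.S0101.result l
  have sq0 : IsPullback (VanCyc.jA R f Ω) (VanCyc.fibStr R f Ω) f (VanCyc.toS R Ω) :=
    IsPullback.of_hasPullback _ _
  have sq : IsPullback (VanCyc.fibStr R f Ω) l (VanCyc.toS R Ω) (j ≫ f) := by
    refine IsPullback.flip ⟨⟨by rw [← Category.assoc, hl, sq0.w]⟩, ⟨PullbackCone.IsLimit.mk _
      (fun s => sq0.lift (s.fst ≫ j) s.snd (by rw [Category.assoc]; exact s.condition)) ?_ ?_ ?_⟩⟩
    · intro s
      rw [← cancel_mono j, Category.assoc, hl, sq0.lift_fst]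
    · intro s
      exact sq0.lift_snd _ _ _
    · intro s m h1 h2
      refine sq0.hom_ext ?_ ?_
      · rw [sq0.lift_fst, ← hl, ← Category.assoc, h1]
      · rw [sq0.lift_snd, h2]
  have h1 := bijective_Hpull_point hN (VanCyc.toS R Ω) sq hY M hM q
  have h2 : Function.Bijective (EtCore.Hpull l ((EtCoh.pull j).obj ((constU X).obj M)) q) :=
    (Etrest.HpullConst.bijective_Hpull_iff_of_iso l q (pullConstU j M)).2 h1
  have h3 := Etrest.HpullConst.bijective_HpullVia l j _ hl ((constU X).obj M) q h2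
  have hg : VanCyc.galGeom f σ ≫ l = l := by
    rw [← cancel_mono j, Category.assoc, hl, VanCyc.galGeom_jA]
  ext x
  obtain ⟨y, rfl⟩ := h3.2 x
  exact EtpbcB.HRel.HpullVia_comp (VanCyc.galGeom f σ) l l (VanCyc.jA R f Ω) (VanCyc.jA R f Ω) j hg
    (VanCyc.galGeom_jA f σ) hl hl ((constU X).obj M) q y

end Gal

end Groth.Agent.Vancyc.H686.GenFib
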