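import Groth.Agent.Vancyc.H686.EvenAcyc
import Groth.Agent.Vancyc.H686.GenFib

/-!
# `Van` for the standard even-dimensional quadric over a strictly henselian local ring
-/

set_option autoImplicit false
universe u

open CategoryTheory CategoryTheory.Limits AlgebraicGeometry MvPolynomial

namespace Groth.Agent.Vancyc.H686.EvenVan

open Groth.Agent.Vancyc.H685 Groth.Agent.Vancyc.H685.StdModel Groth.Agent.Vancyc.H686.GeoR
  Groth.Agent.Vancyc.H263.AffBundle
  Groth.Agent.Vancyc.H686.Van Groth.Agent.Vancyc.H686.VanMV Groth.Agent.Vancyc.H686.VanStep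
  Groth.Agent.Vancyc.H686.EvenGeo Groth.Agent.Vancyc.H686.EvenAcyc Groth.Agent.Vancyc.H686.VanFinal
  Groth.Agent.Vancyc.H686.GenFib Groth.Agent.Vancyc.H675.AcycPt

section Opens

variable {X : Scheme.{u}} (U U' W : X.Opens) (hW : U ⊓ U' = W) (hX : U ⊔ U' = ⊤)

include hW in
theorem range_inter : Set.range W.ι = Set.range U.ι ∩ Set.range U'.ι := by
  rw [Scheme.Opens.range_ι, Scheme.Opens.range_ι, Scheme.Opens.range_ι, ← hW]
  rfl

include hX in
theorem range_union : Set.range U.ι ∪ Set.range U'.ι = Set.univ := by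
  rw [Scheme.Opens.range_ι, Scheme.Opens.range_ι]
  have := congrArg (fun O : X.Opens => (O : Set X)) hX
  exact this

end Opens

section Gen

variable (C : Type u) [CommRing C] {m : ℕ} (α : Fin m → C) {N : ℕ}
  (hN : IsUnit (N : Γ(Spec (CommRingCat.of C), ⊤)))

include hN in
theorem van_U₀ : Van N ((U₀ C α).ι ≫ p C α) := by
  intro G hG h0 q
  have h1 := h0 q
  exact (bijective_hp_U₀ C α hN G hG q).2.subsingleton

include hN in
theorem van_U₁ : Van N ((U₁ C α).ι ≫ p C α) := by
  intro G hG h0 q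
  have h1 := h0 q
  exact (bijective_hp_U₁ C α hN G hG q).2.subsingleton

include hN in
/-- `Van` for the quadric over a base with `Van` for `T₀` and `T`. -/
theorem van_quad {S : Scheme.{u}} (f : Spec (CommRingCat.of C) ⟶ S) (hT : Van N f)
    (hT₀ : Van N ((T₀ C α).ι ≫ f)) : Van N (p C α ≫ f) := by
  refine Van.union (U₀ C α).ι (U₁ C α).ι (V C α).ι (range_inter _ _ _ (inter C α))
    (range_union _ _ (cov C α)) ?_ ?_ ?_
  · exact ((van_U₀ C α hN).comp hT).congr (Category.assoc _ _ _)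
  · exact ((van_U₁ C α hN).comp hT).congr (Category.assoc _ _ _)
  · refine ((Van.of_acyc (acyc_p C α hN)).comp hT₀).congr ?_
    rw [← Category.assoc, morphismRestrict_ι, Category.assoc]
    rfl

end Gen

section Smooth

variable (C : Type u) [CommRing C] {m : ℕ} (α : Fin m → C)

theorem smooth_bo : Smooth ((bo (QuadAlg.s C α) : (Y C α).Opens).ι ≫ p C α) := by
  have h1 := isIso_φ C α
  have h2 : (bo (QuadAlg.s C α) : (Y C α).Opens).ι ≫ p C α = inv (φ C α ∣_ bo (QuadAlg.s C α)) ≫
      (φ C α ⁻¹ᵁ bo (QuadAlg.s C α)).ι ≫ str m C := by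
    rw [← φ_p C α, ← Category.assoc (φ C α ⁻¹ᵁ bo (QuadAlg.s C α)).ι, ← morphismRestrict_ι,
      Category.assoc, IsIso.inv_hom_id_assoc]
  rw [h2]
  have := VanPunct.smooth_str (R := C) m
  infer_instance

theorem τ_bo : τ C α ⁻¹ᵁ bo (QuadAlg.s C α) = bo (1 - QuadAlg.s C α) := by
  apply TopologicalSpace.Opens.ext
  ext x
  change τ C α x ∈ bo (QuadAlg.s C α) ↔ x ∈ bo (1 - QuadAlg.s C α)
  rw [mem_bo, mem_bo]
  change ¬ (QuadAlg.tau C α (QuadAlg.s C α) ∈ x.asIdeal) ↔ _
  rw [QuadAlg.tau_s]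

theorem smooth_bo' : Smooth ((bo (1 - QuadAlg.s C α) : (Y C α).Opens).ι ≫ p C α) := by
  rw [← τ_bo]
  have h2 : (τ C α ⁻¹ᵁ bo (QuadAlg.s C α)).ι ≫ p C α = (τ C α ∣_ bo (QuadAlg.s C α)) ≫
      (bo (QuadAlg.s C α) : (Y C α).Opens).ι ≫ p C α := by
    rw [← Category.assoc, morphismRestrict_ι, Category.assoc, τ_p]
  rw [h2]
  have := smooth_bo C α
  infer_instance

/-- The quadric is smooth. -/
theorem smooth_p : Smooth (p C α) := by
  let U : Bool → (Y C α).Opens := fun b => bif b then bo (QuadAlg.s C α) else bo (1 - QuadAlg.s C α)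
  have hU : ⨆ b, U b = ⊤ := by
    apply TopologicalSpace.Opens.ext
    rw [TopologicalSpace.Opens.coe_iSup, TopologicalSpace.Opens.coe_top, Set.eq_univ_iff_forall]
    intro x
    rw [Set.mem_iUnion]
    by_cases h : x ∈ bo (QuadAlg.s C α)
    · exact ⟨true, h⟩
    · refine ⟨false, ?_⟩
      rw [mem_bo, not_not] at h
      change x ∈ bo (1 - QuadAlg.s C α)
      rw [mem_bo]
      intro h1
      exact x.isPrime.ne_top ((Ideal.eq_top_iff_one _).2 (by simpa using x.asIdeal.add_mem h h1))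
  rw [IsZariskiLocalAtSource.iff_of_iSup_eq_top (P := @Smooth) U hU]
  rintro (_ | _)
  · exact smooth_bo' C α
  · exact smooth_bo C α

end Smooth

section Std

variable (R : Type u) [CommRing R] (m : ℕ)

instance smooth_std : Smooth (stdStr R m) := by
  rw [← stdProj_comp]
  have h1 : Smooth (stdProj R m) := smooth_p (MvPolynomial (Fin m) R) (fun i => MvPolynomial.X i)
  have h2 : Smooth (Spec.map (CommRingCat.ofHom (algebraMap R (MvPolynomial (Fin m) R)))) :=
    VanPunct.smooth_str (R := R) m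
  infer_instance

variable [HenselianLocalRing R] [IsSepClosed (IsLocalRing.ResidueField R)] {N : ℕ}
  (hN : IsUnit (N : Γ(Spec (CommRingCat.of R), ⊤)))

include hN in
/-- `Van` for the standard quadric. -/
theorem van_std : Van N (stdStr R m) := by
  have h1 := van_quad (MvPolynomial (Fin m) R) (fun i : Fin m => MvPolynomial.X i)
    (isUnit_of_hom (str m R) hN) (str m R) (Van.of_acyc ((isAff_str m).acyc hN)) (van_punct hN m)
  exact h1.congr (stdProj_comp R m)

variable {R} {K : Type u} [Field K] [Algebra R K] {Ω : Type u} [Field Ω] [IsSepClosed Ω]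
  [Algebra K Ω] [Algebra R Ω] [IsScalarTower R K Ω]

include hN in
/-- The Galois action on the cohomology of the standard quadric is trivial. -/
theorem galH_std (σ : Ω ≃ₐ[K] Ω) [PreservesFiniteLimits (EtCoh.pull (VanCyc.galGeom (stdStr R m) σ))]
    (M : AddCommGrpCat.{u + 1}) (hM : ∀ x : M, N • x = 0) (q : ℕ) :
    VanCyc.galH (stdStr R m) σ ((constU _).obj M) q = AddMonoidHom.id _ := by
  have h1 : Smooth (𝟙 _ ≫ stdStr R m) := by
    rw [Category.id_comp]
    infer_instance
  exact galH_eq_id (stdStr R m) hN (𝟙 _) ((van_std R m hN).congr (Category.id_comp _).symm)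
    (VanCyc.jA R (stdStr R m) Ω) (Category.comp_id _) σ M hM q

end Std

end Groth.Agent.Vancyc.H686.EvenVan
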