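import Groth.Agent.Vancyc.H686.NormalFormOdd
import Groth.Agent.Vancyc.H694.StdT

/-!
# Normal forms of non-degenerate quadratic forms over a strictly henselian local ring, `stdT` version

* `LinIso P P'` : an isomorphism `R[x]/(P) ≃ₐ[R] R[y]/(P')` induced by an invertible linear substitution.
* `exists_linIso_even` : `Q` non-degenerate in `2m` variables: `quadRing R a b ≃ quadRing R (stdT R m) b`.
* `exists_linIso_odd` : `Q` non-degenerate in `2m + 1` variables, `2` invertible:
  `quadRing R a b ≃ degQuadRing R (stdT R m) 0 (-b)`.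
-/

set_option autoImplicit false
universe u

open IsLocalRing MvPolynomial

namespace Groth.Agent.Vancyc.H686.NormalFormStd

open Groth.Agent.Sga67.QuadSplit Groth.Agent.Vancyc.H686.NormalForm
  Groth.Agent.Vancyc.H686.NormalFormOdd Groth.Agent.Vancyc.H694.StdT

section LinIso

variable {R : Type u} [CommRing R] {n n' : Type} [Fintype n] [DecidableEq n] [Fintype n']
  [DecidableEq n']

/-- An isomorphism `R[x]/(P) ≃ₐ[R] R[y]/(P')` induced by an invertible linear substitution. -/
structure LinIso (P : MvPolynomial n R) (P' : MvPolynomial n' R) where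
  /-- the substitution `x_i ↦ ∑ g i j y_j` -/
  g : Matrix n n' R
  /-- the inverse substitution -/
  g' : Matrix n' n R
  /-- `g g' = 1` -/
  h1 : g * g' = 1
  /-- `g' g = 1` -/
  h2 : g' * g = 1
  /-- `P(g y) = P'(y)` -/
  h : linHom g P = P'

namespace LinIso

variable {P : MvPolynomial n R} {P' : MvPolynomial n' R} (l : LinIso P P')

/-- The isomorphism of `R`-algebras. -/
noncomputable def e : (MvPolynomial n R ⧸ Ideal.span {P}) ≃ₐ[R] (MvPolynomial n' R ⧸ Ideal.span {P'}) :=
  quotEquiv (linEquiv l.g l.g' l.h1 l.h2) P P' l.h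

theorem e_mk (p : MvPolynomial n R) :
    l.e (Ideal.Quotient.mk _ p) = Ideal.Quotient.mk _ (linHom l.g p) := rfl

@[simp]
theorem e_X (i : n) :
    l.e (Ideal.Quotient.mk _ (X i)) = Ideal.Quotient.mk _ (∑ j : n', C (l.g i j) * X j) := by
  rw [e_mk, linHom_X]

theorem e_symm_mk (p : MvPolynomial n' R) :
    l.e.symm (Ideal.Quotient.mk _ p) = Ideal.Quotient.mk _ (linHom l.g' p) := by
  rw [AlgEquiv.symm_apply_eq, e_mk]
  have h : (linHom l.g).comp (linHom l.g') = AlgHom.id R _ := by
    rw [linHom_comp, l.h2, linHom_one]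
  exact congrArg _ (AlgHom.congr_fun h p).symm

@[simp]
theorem e_symm_X (j : n') :
    l.e.symm (Ideal.Quotient.mk _ (X j)) = Ideal.Quotient.mk _ (∑ i : n, C (l.g' j i) * X i) := by
  rw [e_symm_mk, linHom_X]

/-- The ideal generated by `I` and the variables. -/
noncomputable def vIdeal (n : Type) (I : Ideal R) : Ideal (MvPolynomial n R) :=
  I.map C ⊔ Ideal.span (Set.range X)

theorem linHom_mem (g : Matrix n n' R) (I : Ideal R) (p : MvPolynomial n R) (hp : p ∈ vIdeal n I) :
    linHom g p ∈ vIdeal n' I := by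
  have h : vIdeal n I ≤ (vIdeal n' I).comap (linHom g) := by
    refine sup_le ?_ ?_
    · rw [Ideal.map_le_iff_le_comap]
      intro r hr
      rw [Ideal.mem_comap, Ideal.mem_comap, linHom_C]
      exact Ideal.mem_sup_left (Ideal.mem_map_of_mem _ hr)
    · rw [Ideal.span_le]
      rintro _ ⟨i, rfl⟩
      rw [SetLike.mem_coe, Ideal.mem_comap, linHom_X]
      exact Ideal.mem_sup_right (Ideal.sum_mem _ fun j _ => Ideal.mul_mem_left _ _
        (Ideal.subset_span ⟨j, rfl⟩))
  exact h hp

theorem e_mem (I : Ideal R) (y : MvPolynomial n R ⧸ Ideal.span {P})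
    (hy : y ∈ (vIdeal n I).map (Ideal.Quotient.mk (Ideal.span {P}))) :
    l.e y ∈ (vIdeal n' I).map (Ideal.Quotient.mk (Ideal.span {P'})) := by
  obtain ⟨x, hx, rfl⟩ := (Ideal.mem_map_iff_of_surjective _ Ideal.Quotient.mk_surjective).1 hy
  rw [e_mk]
  exact Ideal.mem_map_of_mem _ (linHom_mem l.g I x hx)

theorem e_symm_mem (I : Ideal R) (y : MvPolynomial n' R ⧸ Ideal.span {P'})
    (hy : y ∈ (vIdeal n' I).map (Ideal.Quotient.mk (Ideal.span {P'}))) :
    l.e.symm y ∈ (vIdeal n I).map (Ideal.Quotient.mk (Ideal.span {P})) := by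
  obtain ⟨x, hx, rfl⟩ := (Ideal.mem_map_iff_of_surjective _ Ideal.Quotient.mk_surjective).1 hy
  rw [e_symm_mk]
  exact Ideal.mem_map_of_mem _ (linHom_mem l.g' I x hx)

/-- The image of the ideal generated by `I` and the variables. -/
theorem map_e (I : Ideal R) :
    ((vIdeal n I).map (Ideal.Quotient.mk (Ideal.span {P}))).map l.e =
      (vIdeal n' I).map (Ideal.Quotient.mk (Ideal.span {P'})) := by
  refine le_antisymm (Ideal.map_le_iff_le_comap.2 fun y hy => l.e_mem I y hy) fun y hy => ?_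
  have h := Ideal.mem_map_of_mem l.e (l.e_symm_mem I y hy)
  rwa [l.e.apply_symm_apply] at h

end LinIso

/-- Renaming variables. -/
theorem linHom_rename {n'' : Type} [Fintype n''] [DecidableEq n''] (E : n' ≃ n'')
    (g : Matrix n n' R) (p : MvPolynomial n R) :
    linHom (g.submatrix id E.symm) p = rename E (linHom g p) := by
  have h : linHom (g.submatrix id E.symm) = (rename E).comp (linHom g) := by
    apply MvPolynomial.algHom_ext
    intro i
    rw [linHom_X, AlgHom.comp_apply, linHom_X, map_sum, ← Equiv.sum_comp E]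
    refine Finset.sum_congr rfl fun j _ => ?_
    simp [Matrix.submatrix_apply]
  exact AlgHom.congr_fun h p

/-- Renaming the variables of the target. -/
noncomputable def LinIso.rename {n'' : Type} [Fintype n''] [DecidableEq n''] (E : n' ≃ n'')
    {P : MvPolynomial n R} {P' : MvPolynomial n' R} (l : LinIso P P') {P'' : MvPolynomial n'' R}
    (h : MvPolynomial.rename E P' = P'') : LinIso P P'' where
  g := l.g.submatrix id E.symm
  g' := l.g'.submatrix E.symm id
  h1 := by
    rw [Matrix.submatrix_mul_equiv, l.h1, Matrix.submatrix_id_id]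
  h2 := by
    rw [← Matrix.submatrix_mul _ _ E.symm id E.symm Function.bijective_id, l.h2,
      Matrix.submatrix_one_equiv]
  h := by rw [linHom_rename, l.h, h]

end LinIso

section Even

variable {R : Type u} [CommRing R]

/-- `Fin m ⊕ Fin m ≃ Fin (2 * m)`, `inl i ↦ i`, `inr i ↦ m + i`. -/
noncomputable def sumEquiv (m : ℕ) : Fin m ⊕ Fin m ≃ Fin (2 * m) :=
  Equiv.ofBijective (Sum.elim (lo m) (hi m)) (by
    constructor
    · rintro (i | i) (j | j) h
      · exact congrArg _ (lo_injective h)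
      · have h' := congrArg Fin.val h
        simp only [Sum.elim_inl, Sum.elim_inr, lo, hi] at h'
        omega
      · have h' := congrArg Fin.val h
        simp only [Sum.elim_inl, Sum.elim_inr, lo, hi] at h'
        omega
      · exact congrArg _ (hi_injective h)
    · intro j
      rcases eq_lo_or_hi j with ⟨i, rfl⟩ | ⟨i, rfl⟩
      · exact ⟨Sum.inl i, rfl⟩
      · exact ⟨Sum.inr i, rfl⟩)

@[simp] theorem sumEquiv_inl (m : ℕ) (i : Fin m) : sumEquiv m (Sum.inl i) = lo m i := rfl
@[simp] theorem sumEquiv_inr (m : ℕ) (i : Fin m) : sumEquiv m (Sum.inr i) = hi m i := rfl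

/-- A split form is the standard form. -/
theorem nonempty_linIso_of_split {n : Type} [Fintype n] [DecidableEq n] (m : ℕ) (a : Matrix n n R)
    (h : Split a (Fin m)) (b : R) :
    Nonempty (LinIso (formPoly a - C b) (VanCyc.quadPoly (stdT R m) - C b)) := by
  obtain ⟨g, g', h1, h2, h3⟩ := h
  have h4 := formPoly_isAlt _ h3
  rw [formPoly_sub, sub_eq_zero, formPoly_hyp] at h4
  have l : LinIso (formPoly a - C b) (∑ k : Fin m, X (Sum.inl k) * X (Sum.inr k) - C b) :=
    { g := g, g' := g', h1 := h1, h2 := h2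
      h := by rw [map_sub, linHom_formPoly, linHom_C, h4] }
  refine ⟨l.rename (sumEquiv m) ?_⟩
  rw [quadPoly_stdT, map_sub, map_sum, rename_C]
  congr 1
  refine Finset.sum_congr rfl fun k _ => ?_
  rw [map_mul, rename_X, rename_X, sumEquiv_inl, sumEquiv_inr]

/-- **Normal form**, even number of variables. -/
theorem nonempty_linIso_even [HenselianLocalRing R] [IsSepClosed (ResidueField R)] {N : ℕ} (m : ℕ)
    (hN : N = 2 * m) (a : Fin N → Fin N → R) (ha : VanCyc.QuadNondeg a) (b : R) :
    Nonempty (LinIso (VanCyc.quadPoly a - C b) (VanCyc.quadPoly (stdT R m) - C b)) := by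
  have h := nonempty_linIso_of_split m (upper a) (split_upper m hN a ha) b
  rwa [formPoly_upper] at h

/-- **Normal form**, even number of variables: the rings. -/
theorem exists_quadRing_equiv_even [HenselianLocalRing R] [IsSepClosed (ResidueField R)] {N : ℕ}
    (m : ℕ) (hN : N = 2 * m) (a : Fin N → Fin N → R) (ha : VanCyc.QuadNondeg a) (b : R) :
    ∃ (g : Matrix (Fin N) (Fin (2 * m)) R) (g' : Matrix (Fin (2 * m)) (Fin N) R)
      (e : VanCyc.quadRing R a b ≃ₐ[R] VanCyc.quadRing R (stdT R m) b),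
      g * g' = 1 ∧ g' * g = 1 ∧
      (∀ i, e (Ideal.Quotient.mk _ (X i)) = Ideal.Quotient.mk _ (∑ j, C (g i j) * X j)) ∧
      (∀ j, e.symm (Ideal.Quotient.mk _ (X j)) = Ideal.Quotient.mk _ (∑ i, C (g' j i) * X i)) ∧
      (VanCyc.originQuot R a b).map e = VanCyc.originQuot R (stdT R m) b := by
  obtain ⟨l⟩ := nonempty_linIso_even m hN a ha b
  exact ⟨l.g, l.g', l.e, l.h1, l.h2, l.e_X, l.e_symm_X, l.map_e (maximalIdeal R)⟩

end Even

section Odd

variable {R : Type u} [CommRing R]

/-- `Unit ⊕ (Fin m ⊕ Fin m) ≃ Fin (2 * m + 1)`, `inl () ↦ 0`, `inr x ↦ x + 1`. -/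
noncomputable def oddEquiv (m : ℕ) : Unit ⊕ (Fin m ⊕ Fin m) ≃ Fin (2 * m + 1) :=
  Equiv.ofBijective (Sum.elim (fun _ => 0) (fun x => (sumEquiv m x).succ)) (by
    constructor
    · rintro (i | i) (j | j) h
      · rfl
      · exact absurd h (Fin.succ_ne_zero _).symm
      · exact absurd h (Fin.succ_ne_zero _)
      · exact congrArg _ ((sumEquiv m).injective (Fin.succ_injective _ h))
    · intro j
      rcases Fin.eq_zero_or_eq_succ j with rfl | ⟨i, rfl⟩
      · exact ⟨Sum.inl (), rfl⟩
      · obtain ⟨x, rfl⟩ := (sumEquiv m).surjective i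
        exact ⟨Sum.inr x, rfl⟩)

@[simp] theorem oddEquiv_inl (m : ℕ) (i : Unit) : oddEquiv m (Sum.inl i) = 0 := rfl
@[simp] theorem oddEquiv_inr (m : ℕ) (x : Fin m ⊕ Fin m) :
    oddEquiv m (Sum.inr x) = (sumEquiv m x).succ := rfl

/-- A split odd form is the standard form. -/
theorem nonempty_linIso_of_splitOdd [IsLocalRing R] {n : Type} [Fintype n] [DecidableEq n] (m : ℕ)
    (a : Matrix n n R) (h : SplitOdd a (Fin m)) (b : R) :
    Nonempty (LinIso (formPoly a - C b) (VanCyc.degQuadPoly R (stdT R m) 0 (-b))) := by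
  obtain ⟨g, g', h1, h2, h3⟩ := h
  have h4 := formPoly_isAlt _ h3
  rw [formPoly_sub, sub_eq_zero, formPoly_odd] at h4
  have l : LinIso (formPoly a - C b) (X (Sum.inl ()) ^ 2 +
      ∑ k : Fin m, X (Sum.inr (Sum.inl k)) * X (Sum.inr (Sum.inr k)) - C b) :=
    { g := g, g' := g', h1 := h1, h2 := h2
      h := by rw [map_sub, linHom_formPoly, linHom_C, h4] }
  refine ⟨l.rename (oddEquiv m) ?_⟩
  rw [VanCyc.degQuadPoly, quadPoly_stdT, map_sub, map_add, map_sum, map_sum, rename_C, map_pow,
    rename_X, oddEquiv_inl]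
  have h5 : ∀ k : Fin m, MvPolynomial.rename (oddEquiv m) (X (Sum.inr (Sum.inl k)) *
      X (Sum.inr (Sum.inr k)) : MvPolynomial _ R) =
      MvPolynomial.rename Fin.succ (X (lo m k) * X (hi m k)) := by
    intro k
    rw [map_mul, rename_X, rename_X, map_mul, rename_X, rename_X, oddEquiv_inr, oddEquiv_inr,
      sumEquiv_inl, sumEquiv_inr]
  simp only [h5, map_zero, zero_mul, add_zero, map_neg]
  ring

/-- **Normal form**, odd number of variables. -/
theorem nonempty_linIso_odd [HenselianLocalRing R] [IsSepClosed (ResidueField R)]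
    (h2 : IsUnit (2 : R)) {N : ℕ} (m : ℕ) (hN : N = 2 * m + 1) (a : Fin N → Fin N → R)
    (ha : VanCyc.QuadNondeg a) (b : R) :
    Nonempty (LinIso (VanCyc.quadPoly a - C b) (VanCyc.degQuadPoly R (stdT R m) 0 (-b))) := by
  have h := nonempty_linIso_of_splitOdd m (upper a) (splitOdd_of_isUnit_det h2 m (Fin N)
    (by rw [Fintype.card_fin, hN]) _ (by
      rw [upper_add_transpose]
      exact ha)) b
  rwa [formPoly_upper] at h

/-- The side ideal is contained in the origin ideal. -/
theorem sideIdeal_le [IsLocalRing R] {m : ℕ} (a' : Fin (2 * m) → Fin (2 * m) → R) (b c : R) :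
    VanCyc.sideIdeal R a' b c ≤ ((VanCyc.originIdeal R : Ideal (MvPolynomial (Fin (2 * m + 1)) R)).map
      (Ideal.Quotient.mk (Ideal.span {VanCyc.degQuadPoly R a' b c}))) := by
  refine Ideal.map_mono (sup_le le_sup_left (le_trans ?_ le_sup_right))
  refine Ideal.span_mono ?_
  rintro _ ⟨i, rfl⟩
  exact ⟨_, rfl⟩

/-- **Normal form**, odd number of variables: the rings. -/
theorem exists_quadRing_equiv_odd [HenselianLocalRing R] [IsSepClosed (ResidueField R)]
    (h2 : IsUnit (2 : R)) {N : ℕ} (m : ℕ) (hN : N = 2 * m + 1) (a : Fin N → Fin N → R)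
    (ha : VanCyc.QuadNondeg a) (b : R) :
    ∃ (g : Matrix (Fin N) (Fin (2 * m + 1)) R) (g' : Matrix (Fin (2 * m + 1)) (Fin N) R)
      (e : VanCyc.quadRing R a b ≃ₐ[R] VanCyc.degQuadRing R (stdT R m) 0 (-b)),
      g * g' = 1 ∧ g' * g = 1 ∧
      (∀ i, e (Ideal.Quotient.mk _ (X i)) = Ideal.Quotient.mk _ (∑ j, C (g i j) * X j)) ∧
      (∀ j, e.symm (Ideal.Quotient.mk _ (X j)) = Ideal.Quotient.mk _ (∑ i, C (g' j i) * X i)) ∧
      (VanCyc.originQuot R a b).map e = (VanCyc.originIdeal R).map (Ideal.Quotient.mk _) ∧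
      VanCyc.sideIdeal R (stdT R m) 0 (-b) ≤ (VanCyc.originQuot R a b).map e := by
  obtain ⟨l⟩ := nonempty_linIso_odd h2 m hN a ha b
  refine ⟨l.g, l.g', l.e, l.h1, l.h2, l.e_X, l.e_symm_X, l.map_e (maximalIdeal R), ?_⟩
  exact (sideIdeal_le _ _ _).trans (l.map_e (maximalIdeal R)).ge

end Odd

end Groth.Agent.Vancyc.H686.NormalFormStd
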