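import Groth.Agent.Vancyc.H686.GeoR

/-!
# Base change of punctured affine spaces
-/

set_option autoImplicit false
universe u

open CategoryTheory CategoryTheory.Limits AlgebraicGeometry MvPolynomial

namespace Groth.Agent.Vancyc.H686.GeoBC

open Groth.Agent.Vancyc.H686.GeoR

variable (n : ℕ) {R R' : Type u} [CommRing R] [CommRing R'] (φ : R →+* R')

/-- `A^n_{R'} ⟶ A^n_R`. -/
noncomputable abbrev mapA : A n R' ⟶ A n R := Spec.map (CommRingCat.ofHom (MvPolynomial.map φ))

theorem isPullback_mapA :
    IsPullback (mapA n φ) (str n R') (str n R) (Spec.map (CommRingCat.ofHom φ)) := by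
  refine isPullback_of_univ _ _ _ _ ?_ ?_ ?_
  · ext r
    simp
  · intro T _ f g h
    have hC : ∀ r : R, f (C r) = g (φ r) := fun r => RingHom.congr_fun h r
    refine ⟨eval₂Hom g fun i => f (X i), ?_, ?_⟩
    · refine MvPolynomial.ringHom_ext ?_ ?_
      · intro r
        simp [hC]
      · intro i
        simp
    · ext r
      simp
  · intro T _ k k' h1 h2
    refine MvPolynomial.ringHom_ext ?_ ?_
    · intro r
      exact RingHom.congr_fun h2 r
    · intro i
      have := RingHom.congr_fun h1 (X i)
      simpa using this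

theorem preimage_punct : mapA n φ ⁻¹ᵁ punct n R = punct n R' := by
  apply TopologicalSpace.Opens.ext
  ext x
  change mapA n φ x ∈ punct n R ↔ x ∈ punct n R'
  rw [mem_punct, mem_punct]
  refine exists_congr fun i => ?_
  have h : MvPolynomial.map φ (X i) = (X i : MvPolynomial (Fin n) R') := map_X _ _
  rw [← h]
  exact Iff.rfl

/-- The map of punctured affine spaces. -/
noncomputable def mapP : (punct n R' : Scheme.{u}) ⟶ (punct n R : Scheme.{u}) :=
  IsOpenImmersion.lift (punct n R).ι ((punct n R').ι ≫ mapA n φ) (by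
    rintro _ ⟨x, rfl⟩
    rw [Scheme.Opens.range_ι]
    have h : x.1 ∈ mapA n φ ⁻¹ᵁ punct n R := by
      rw [preimage_punct]
      exact x.2
    exact h)

theorem mapP_ι : mapP n φ ≫ (punct n R).ι = (punct n R').ι ≫ mapA n φ :=
  IsOpenImmersion.lift_fac _ _ _

theorem isPullback_mapP_ι : IsPullback (mapP n φ) (punct n R').ι (punct n R).ι (mapA n φ) := by
  refine IsOpenImmersion.isPullback _ _ _ _ (mapP_ι n φ).symm ?_
  rw [Scheme.Opens.opensRange_ι, Scheme.Opens.opensRange_ι, preimage_punct]

theorem isPullback_mapP : IsPullback (mapP n φ) ((punct n R').ι ≫ str n R')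
    ((punct n R).ι ≫ str n R) (Spec.map (CommRingCat.ofHom φ)) :=
  (isPullback_mapP_ι n φ).paste_vert (isPullback_mapA n φ)

end Groth.Agent.Vancyc.H686.GeoBC
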