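import Groth.Agent.Vancyc.H686.VanSH
import Groth.Agent.EtpbcB.TorsionBasic
import Groth.Agent.S0001

/-!
# `Van` for proper morphisms over a strictly henselian local ring
-/

set_option autoImplicit false
universe u
open CategoryTheory CategoryTheory.Limits AlgebraicGeometry Opposite

namespace Groth.Agent.Vancyc.H686.VanProper

open Groth.Agent.Vancyc.H686.VanMV Groth.Agent.Vancyc.H686.Van Groth.Agent.Vancyc.H686.VanSH
  Groth.Agent.Sga4B Groth.Agent.EtpbcB.NKillEt Groth.Agent.Etbase

variable {R : Type u} [CommRing R] [HenselianLocalRing R] [IsSepClosed (IsLocalRing.ResidueField R)]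

/-- Proper morphisms preserve the vanishing of the cohomology of torsion sheaves. -/
theorem van_of_isProper {N : ℕ} (hN : 0 < N) {X : Scheme.{u}} (f : X ⟶ Spec (CommRingCat.of R))
    [IsProper f] : Van N f := by
  intro C hC h0
  have hz := (allZero_iff_pull C).1 h0
  let g := StrictHensPoint.pt R
  let g' := pullback.fst f g
  let f' := pullback.snd f g
  have hsq : IsPullback g' f' f g := IsPullback.of_hasPullback f g
  have hK : EtCoh.IsTorsion ((EtCoh.pull f).obj C) :=
    EtpbcB.TorsionBasic.isTorsion_of_killedBy hN (killedBy_pull f hC)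
  have h1 : IsZero ((EtCoh.pull g').obj ((EtCoh.pull f).obj C)) :=
    ((EtCoh.pull f').map_isZero hz).of_iso ((EtpbcA.LA.kap hsq.w.symm).app C)
  refine allZero_of_leray f _ fun q => ?_
  rw [allZero_iff_pull]
  obtain ⟨i⟩ := (Groth.Agent.S0001.result X _ _ _ f g f' g' hsq _ hK).1 q
  exact ((EtCoh.Rpush f' q).map_isZero h1).of_iso i

end Groth.Agent.Vancyc.H686.VanProper
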