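import Groth.Agent.Vancyc.H686.VanPunct
import Groth.Agent.Vancyc.H686.VanProper
import Groth.Agent.Vancyc.H263.LinearFib

/-!
# `Van` for the multiplicative group and punctured affine spaces over a strictly henselian local ring
-/

set_option autoImplicit false
universe u

open CategoryTheory CategoryTheory.Limits AlgebraicGeometry

namespace Groth.Agent.Vancyc.H686.VanFinal

open Groth.Agent.Vancyc.H686.Van Groth.Agent.Vancyc.H686.VanStep Groth.Agent.Vancyc.H686.VanGm
  Groth.Agent.Vancyc.H686.GeoR Groth.Agent.Vancyc.H686.VanPunct Groth.Agent.Vancyc.H686.VanProper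
  Groth.Agent.Vancyc.H263.AffBundle Groth.Agent.Vancyc.H263.LinearFib

theorem isUnit_of_hom {X S : Scheme.{u}} (f : X ⟶ S) {N : ℕ} (h : IsUnit (N : Γ(S, ⊤))) :
    IsUnit (N : Γ(X, ⊤)) := by
  have h1 := h.map f.appTop.hom
  rwa [map_natCast] at h1

theorem isUnit_spec {R : Type u} [CommRing R] {N : ℕ} (h : IsUnit (N : R)) :
    IsUnit (N : Γ(Spec (CommRingCat.of R), ⊤)) := by
  have := h.map (Scheme.ΓSpecIso (CommRingCat.of R)).inv.hom
  rwa [map_natCast] at this

/-- Affine bundles are universally acyclic. -/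
theorem uacyc_of_isAffBundle {N m : ℕ} {X S : Scheme.{u}} {f : X ⟶ S} (hN : IsUnit (N : Γ(S, ⊤)))
    (h : IsAffBundle m f) : UAcyc N f := fun _ _ _ _ g sq =>
  (h.of_isPullback sq).acyc (isUnit_of_hom g hN)

variable {R : Type u} [CommRing R]

theorem isAff_str (n : ℕ) : IsAff n (str n R) :=
  isAff_of_algEquiv (AlgEquiv.refl (R := R) (A₁ := MvPolynomial (Fin n) R))

theorem isAff_strL : IsAff 1 (strL R) :=
  isAff_of_algEquiv (MvPolynomial.uniqueAlgEquiv R (Fin 1)).symm

theorem uacyc_str {N : ℕ} (hN : IsUnit (N : Γ(Spec (CommRingCat.of R), ⊤))) (n : ℕ) :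
    UAcyc N (str n R) := uacyc_of_isAffBundle hN (isAff_str n).isAffBundle

theorem uacyc_strL {N : ℕ} (hN : IsUnit (N : Γ(Spec (CommRingCat.of R), ⊤))) :
    UAcyc N (strL R) := uacyc_of_isAffBundle hN isAff_strL.isAffBundle

variable [HenselianLocalRing R] [IsSepClosed (IsLocalRing.ResidueField R)]

omit [IsSepClosed (IsLocalRing.ResidueField R)] in
theorem pos_of_isUnit {N : ℕ} (hN : IsUnit (N : Γ(Spec (CommRingCat.of R), ⊤))) : 0 < N := by
  rcases Nat.eq_zero_or_pos N with rfl | h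
  · exfalso
    have h1 := hN.map (Scheme.ΓSpecIso (CommRingCat.of R)).hom.hom
    rw [map_natCast, Nat.cast_zero] at h1
    exact not_isUnit_zero h1
  · exact h

/-- `Van` for the multiplicative group. -/
theorem van_gm {N : ℕ} (hN : IsUnit (N : Γ(Spec (CommRingCat.of R), ⊤))) :
    Van N ((gm R).ι ≫ strL R) :=
  van_gm_of R (van_of_isProper (pos_of_isUnit hN) _) (Van.of_acyc ((isAff_self 1 _).acyc hN))

/-- `Van` for punctured affine spaces. -/
theorem van_punct {N : ℕ} (hN : IsUnit (N : Γ(Spec (CommRingCat.of R), ⊤))) (n : ℕ) :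
    Van N ((punct n R).ι ≫ str n R) :=
  van_punct_of hN (van_gm hN) (uacyc_strL hN) (uacyc_str hN) n

end Groth.Agent.Vancyc.H686.VanFinal
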