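import Groth.Agent.Vancyc.H686.QuadGeo
import Groth.Agent.Vancyc.H686.GeoBC
import Groth.Agent.Vancyc.H686.VanFinal

/-!
# The cohomology of the affine quadric `Q = b` in `2m + 2` variables and its Galois action
-/

set_option autoImplicit false
universe u

open CategoryTheory CategoryTheory.Limits AlgebraicGeometry MvPolynomial

namespace Groth.Agent.Vancyc.H686.QuadMain

open Groth.Agent.Vancyc.H686.GeoR Groth.Agent.Vancyc.H686.GeoBC Groth.Agent.Vancyc.H686.QuadGeo
  Groth.Agent.Vancyc.H686.Van Groth.Agent.Vancyc.H686.VanStep Groth.Agent.Vancyc.H686.VanFinal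
  Groth.Agent.Vancyc.H686.GenFib Groth.Agent.Vancyc.H263.AffBundle Groth.Agent.Vancyc.H675.AcycPt

variable {R : Type u} [CommRing R] [HenselianLocalRing R] [IsSepClosed (IsLocalRing.ResidueField R)]
  {K : Type u} [Field K] [Algebra R K] {Ω : Type u} [Field Ω] [Algebra K Ω]
  [Algebra R Ω] [IsScalarTower R K Ω] {m : ℕ} (a : Fin (2 * m + 2) → Fin (2 * m + 2) → R)
  (ha : VanCyc.QuadNondeg a) (b : R) (hb0 : algebraMap R Ω b ≠ 0)

/-- The structure morphism of the quadric. -/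
noncomputable abbrev fX : Spec (CommRingCat.of (VanCyc.quadRing R a b)) ⟶ Spec (CommRingCat.of R) :=
  Spec.map (CommRingCat.ofHom (algebraMap R (VanCyc.quadRing R a b)))

include ha hb0 in
omit [Algebra K Ω] [IsScalarTower R K Ω] in
/-- The geometric generic fibre lies in the affine bundle. -/
theorem exists_lift : ∃ (j : (U m b : Scheme.{u}) ⟶ Spec (CommRingCat.of (VanCyc.quadRing R a b)))
    (l : VanCyc.fib R (fX a b) Ω ⟶ (U m b : Scheme.{u})), IsOpenImmersion j ∧
      j ≫ fX a b = ρ m b ≫ (punct (m + 1) R).ι ≫ str (m + 1) R ∧ l ≫ j = VanCyc.jA R (fX a b) Ω := by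
  obtain ⟨j, hj, hjf, hr⟩ := exists_chart m a ha b
  refine ⟨j, IsOpenImmersion.lift j (VanCyc.jA R (fX a b) Ω) ?_, hj, hjf,
    IsOpenImmersion.lift_fac _ _ _⟩
  rintro _ ⟨z, rfl⟩
  apply hr
  intro h
  -- `b` would vanish at the image of `z` in `Spec Ω`
  have h1 : fX a b (VanCyc.jA R (fX a b) Ω z) = VanCyc.toS R Ω (VanCyc.fibStr R (fX a b) Ω z) := by
    rw [← Scheme.Hom.comp_apply, ← Scheme.Hom.comp_apply, pullback.condition]
  have h2 : b ∈ (fX a b (VanCyc.jA R (fX a b) Ω z)).asIdeal := h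
  rw [h1] at h2
  have h3 : algebraMap R Ω b ∈ (VanCyc.fibStr R (fX a b) Ω z).asIdeal := h2
  exact (VanCyc.fibStr R (fX a b) Ω z).isPrime.ne_top
    (Ideal.eq_top_of_isUnit_mem _ h3 (isUnit_iff_ne_zero.2 hb0))

variable {N : ℕ} (hN : IsUnit (N : Γ(Spec (CommRingCat.of R), ⊤)))

include hN in
theorem van_chart {j : (U m b : Scheme.{u}) ⟶ Spec (CommRingCat.of (VanCyc.quadRing R a b))}
    (hj : j ≫ fX a b = ρ m b ≫ (punct (m + 1) R).ι ≫ str (m + 1) R) : Van N (j ≫ fX a b) := by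
  rw [hj]
  exact (Van.of_acyc ((isAffBundle_ρ m b).acyc (isUnit_of_hom ((punct (m + 1) R).ι ≫
    str (m + 1) R) hN))).comp (van_punct hN (m + 1))

omit [HenselianLocalRing R] [IsSepClosed (IsLocalRing.ResidueField R)] in
theorem smooth_chart {j : (U m b : Scheme.{u}) ⟶ Spec (CommRingCat.of (VanCyc.quadRing R a b))}
    (hj : j ≫ fX a b = ρ m b ≫ (punct (m + 1) R).ι ≫ str (m + 1) R) : Smooth (j ≫ fX a b) := by
  rw [hj]
  have := (isAffBundle_ρ m b).smooth
  have := VanPunct.smooth_str (R := R) (m + 1)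
  infer_instance

variable [IsSepClosed Ω]

include ha hb0 hN in
/-- **The Galois action is trivial.** -/
theorem galH_quad (σ : Ω ≃ₐ[K] Ω) [PreservesFiniteLimits (EtCoh.pull (VanCyc.galGeom (fX a b) σ))]
    (M : AddCommGrpCat.{u + 1}) (hM : ∀ x : M, N • x = 0) (q : ℕ) :
    VanCyc.galH (fX a b) σ ((constU _).obj M) q = AddMonoidHom.id _ := by
  obtain ⟨j, l, hj, hjf, hl⟩ := exists_lift (Ω := Ω) a ha b hb0
  have h1 := van_chart a b hN hjf
  have h2 := smooth_chart a b hjf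
  exact galH_eq_id (fX a b) hN j h1 l hl σ M hM q

include ha hb0 hN in
omit [Algebra K Ω] [IsScalarTower R K Ω] [IsSepClosed Ω] in
/-- **The cohomology of the geometric generic fibre** is that of punctured affine space. -/
theorem H_quad (M : AddCommGrpCat.{u + 1}) (hM : ∀ x : M, N • x = 0) (q : ℕ) :
    Nonempty (EtCoh.H (VanCyc.fib R (fX a b) Ω)
      ((EtCoh.pull (VanCyc.jA R (fX a b) Ω)).obj ((constU _).obj M)) q ≃+
      EtCoh.H (punct (m + 1) Ω : Scheme.{u}) ((constU _).obj M) q) := by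
  obtain ⟨j, l, hj, hjf, hl⟩ := exists_lift (Ω := Ω) a ha b hb0
  have sq0 : IsPullback (VanCyc.jA R (fX a b) Ω) (VanCyc.fibStr R (fX a b) Ω) (fX a b)
      (VanCyc.toS R Ω) := IsPullback.of_hasPullback _ _
  have sq1 : IsPullback l (VanCyc.fibStr R (fX a b) Ω) (ρ m b ≫ (punct (m + 1) R).ι ≫ str (m + 1) R)
      (VanCyc.toS R Ω) := by
    rw [← hjf]
    refine ⟨⟨by rw [← Category.assoc, hl, sq0.w]⟩, ⟨PullbackCone.IsLimit.mk _
      (fun s => sq0.lift (s.fst ≫ j) s.snd (by rw [Category.assoc]; exact s.condition)) ?_ ?_ ?_⟩⟩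
    · intro s
      rw [← cancel_mono j, Category.assoc, hl, sq0.lift_fst]
    · intro s
      exact sq0.lift_snd _ _ _
    · intro s m h1 h2
      refine sq0.hom_ext ?_ ?_
      · rw [sq0.lift_fst, ← hl, ← Category.assoc, h1]
      · rw [sq0.lift_snd, h2]
  have sq2 := IsPullback.of_bot' sq1 (isPullback_mapP (m + 1) (algebraMap R Ω))
  set τ := (isPullback_mapP (m + 1) (algebraMap R Ω)).lift (l ≫ ρ m b) (VanCyc.fibStr R (fX a b) Ω)
    (by rw [Category.assoc, sq1.w]) with hτ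
  have h1 : IsAffBundle m τ := (isAffBundle_ρ m b).of_isPullback sq2
  have h2 := h1.acyc (isUnit_of_hom (mapP (m + 1) (algebraMap R Ω) ≫ (punct (m + 1) R).ι ≫
    str (m + 1) R) hN)
  have hlim : PreservesFiniteLimits (EtCoh.pull τ) := Groth.Agent.S0101.result τ
  have h3 := h2.Hpull_bijective ((constU _).obj M) (killedBy_constU _ N M hM) q
  exact ⟨((AddEquiv.ofBijective _ h3).trans ((EtpbcB.IsoTransport.HMapIso (pullConstU τ M) q).trans
    (EtpbcB.IsoTransport.HMapIso (pullConstU (VanCyc.jA R (fX a b) Ω) M) q).symm)).symm⟩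

end Groth.Agent.Vancyc.H686.QuadMain
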