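import Groth.Agent.Vancyc.H686.AffQuotAlg
import Groth.Agent.Vancyc.H263.LinearFib
import Mathlib.RingTheory.Localization.Away.Basic

/-!
# `{∑ a_j y_j = g}` is an affine bundle over `⋃ D(a_j)`
-/

set_option autoImplicit false
universe u

open CategoryTheory CategoryTheory.Limits AlgebraicGeometry MvPolynomial

namespace Groth.Agent.Vancyc.H686.AffQuot

open Groth.Agent.Vancyc.H686.GeoR Groth.Agent.Vancyc.H686.AffQuotAlg
  Groth.Agent.Vancyc.H263.AffBundle Groth.Agent.Vancyc.H263.LinearFib

variable {B : Type u} [CommRing B] {m : ℕ} (a : Fin (m + 1) → B) (g : B)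

/-- The structure morphism of `{∑ a_j y_j = g}`. -/
noncomputable abbrev π : Spec (CommRingCat.of (Quot a g)) ⟶ Spec (CommRingCat.of B) :=
  Spec.map (CommRingCat.ofHom (algebraMap B (Quot a g)))

/-- The base change along a morphism over which `a_i` is invertible is an affine space. -/
theorem isAff_of_range {T E : Scheme.{u}} {t : T ⟶ Spec (CommRingCat.of B)}
    {q : E ⟶ Spec (CommRingCat.of (Quot a g))} {p : E ⟶ T} (sq : IsPullback q p (π a g) t)
    (i : Fin (m + 1)) (hi : Set.range t ⊆ (bo (a i) : Set (Spec (CommRingCat.of B)))) :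
    IsAff m p := by
  let B' := Localization.Away (a i)
  let φ : B →+* B' := algebraMap B B'
  let j0 : Spec (CommRingCat.of B') ⟶ Spec (CommRingCat.of B) := Spec.map (CommRingCat.ofHom φ)
  have hj0 : IsOpenImmersion j0 := inferInstance
  have hr : Set.range j0 = (bo (a i) : Set (Spec (CommRingCat.of B))) :=
    PrimeSpectrum.localization_away_comap_range B' (a i)
  let y : T ⟶ Spec (CommRingCat.of B') := IsOpenImmersion.lift j0 t (hi.trans hr.ge)
  have hy : y ≫ j0 = t := IsOpenImmersion.lift_fac _ _ _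
  have sq0 : IsPullback (Spec.map (CommRingCat.ofHom (quotMap φ a g)))
      (π (fun j => φ (a j)) (φ g)) (π a g) j0 := isPullback_quot φ a g
  have h1 : IsAff m (π (fun j => φ (a j)) (φ g)) :=
    isAff_quot (fun j => φ (a j)) (φ g) i (IsLocalization.Away.algebraMap_isUnit (a i))
  rw [← hy] at sq
  exact h1.of_isPullback (IsPullback.of_right' sq sq0)

/-- `{∑ a_j y_j = g}` is an affine bundle over opens covered by the `D(a_j)`. -/
theorem isAffBundle (V : (Spec (CommRingCat.of B)).Opens) (hV : V ≤ ⨆ i, bo (a i)) :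
    IsAffBundle m (π a g ∣_ V) := by
  refine isAffBundle_of_opens (fun i => V.ι ⁻¹ᵁ bo (a i)) ?_ fun i => ?_
  · apply TopologicalSpace.Opens.ext
    rw [TopologicalSpace.Opens.coe_iSup, TopologicalSpace.Opens.coe_top, Set.eq_univ_iff_forall]
    intro x
    have := hV x.2
    rw [TopologicalSpace.Opens.mem_iSup] at this
    obtain ⟨i, hi⟩ := this
    exact Set.mem_iUnion.2 ⟨i, hi⟩
  · have sq1 := isPullback_morphismRestrict (π a g ∣_ V) (V.ι ⁻¹ᵁ bo (a i))
    have sq2 := isPullback_morphismRestrict (π a g) V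
    refine isAff_of_range a g (sq1.flip.paste_horiz sq2.flip) i ?_
    rintro _ ⟨x, rfl⟩
    exact x.2

end Groth.Agent.Vancyc.H686.AffQuot
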