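import Groth.Agent.Sga67.QuadSplit2
import Groth.Agent.Etbase.HensLift
import Groth.Prelude.Def_QuadSing
import Mathlib.RingTheory.Etale.Field

/-!
# Quadratic forms over a strictly henselian local ring

* `exists_algHom_self`: an étale algebra over a strictly henselian local ring with a prime above the
  maximal ideal has a retraction.
* `split_of_isUnit_det`: a matrix `a` of even size `2m` with `a + aᵀ` invertible is split over a strictly
  henselian local ring, i.e. the form `xᵀ a x` becomes `∑ x_k y_k` after a linear change of coordinates.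
* `quadEquivSplit`: `R[x]/(Q - b) ≃ₐ[R] R[x_k, y_k]/(∑ x_k y_k - b)`.
-/

set_option autoImplicit false
universe u

open IsLocalRing MvPolynomial

namespace Groth.Agent.Vancyc.H686.NormalForm

open Groth.Agent.Sga67.QuadSplit

section Retract

variable {R : Type u} [CommRing R] [HenselianLocalRing R] [IsSepClosed (ResidueField R)]

/-- Étale neighbourhoods of the closed point of a strictly henselian local ring have a section. -/
theorem exists_algHom_self (B : Type u) [CommRing B] [Algebra R B] [Algebra.Etale R B]
    (q : Ideal B) [q.IsPrime] (hq : q.comap (algebraMap R B) = maximalIdeal R) :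
    Nonempty (B →ₐ[R] R) := by
  let k := ResidueField R
  let L := q.ResidueField
  let f : k →+* L := Ideal.Quotient.lift (maximalIdeal R) (algebraMap R L) (by
    intro a ha
    rw [← hq, Ideal.mem_comap] at ha
    rw [IsScalarTower.algebraMap_apply R B L]
    exact Ideal.algebraMap_residueField_eq_zero.2 ha)
  let _ : Algebra k L := f.toAlgebra
  have : IsScalarTower R k L := IsScalarTower.of_algebraMap_eq fun x => rfl
  have h0 : Algebra.FormallyUnramified B L := by
    have i1 : Algebra.FormallyUnramified B (B ⧸ q) :=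
      Algebra.FormallyUnramified.of_surjective (R := B) (Algebra.ofId B (B ⧸ q))
        Ideal.Quotient.mk_surjective
    have i2 : Algebra.FormallyUnramified (B ⧸ q) L :=
      Algebra.FormallyUnramified.of_isLocalization (nonZeroDivisors (B ⧸ q))
    exact Algebra.FormallyUnramified.comp B (B ⧸ q) L
  have h1 : Algebra.EssFiniteType R L := Algebra.EssFiniteType.comp R B L
  have h2 : Algebra.EssFiniteType k L := Algebra.EssFiniteType.of_comp R k L
  have h3 : Algebra.FormallyUnramified R L := Algebra.FormallyUnramified.comp R B L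
  have h4 : Algebra.FormallyUnramified k L := Algebra.FormallyUnramified.of_restrictScalars R k L
  have h5 : Algebra.IsSeparable k L := Algebra.FormallyUnramified.isSeparable k L
  have h6 : Function.Bijective (algebraMap k L) := IsSepClosed.algebraMap_bijective k L
  let e : k ≃ₐ[R] L := AlgEquiv.ofBijective (IsScalarTower.toAlgHom R k L) h6
  obtain ⟨σ, -⟩ := Etbase.HensLift.exists_lift
    ((e.symm.toAlgHom).comp (IsScalarTower.toAlgHom R B L) : B →ₐ[R] ResidueField R)
  exact ⟨σ⟩

/-- **Splitting over a strictly henselian local ring.** -/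
theorem split_of_isUnit_det (m : ℕ) (n : Type) [Fintype n] [DecidableEq n]
    (hn : Fintype.card n = 2 * m) (a : Matrix n n R) (h : IsUnit (a + a.transpose).det) :
    Split a (Fin m) := by
  obtain ⟨B, i1, i2, q, hq, hs⟩ := etSplit m (maximalIdeal R) n hn a (fun hc =>
    (inferInstance : (maximalIdeal R).IsPrime).ne_top (Ideal.eq_top_of_isUnit_mem _ hc h))
  obtain ⟨h1, h2, h3⟩ := hq
  obtain ⟨σ⟩ := exists_algHom_self B q h3
  have h4 := hs.map σ.toRingHom
  have h5 : (a.map (algebraMap R B)).map σ.toRingHom = a := by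
    ext i j
    simp [Matrix.map_apply]
  rwa [h5] at h4

end Retract

section Linear

variable {R : Type u} [CommRing R] {n n' κ : Type} [Fintype n] [DecidableEq n] [Fintype n']
  [DecidableEq n'] [Fintype κ] [DecidableEq κ]

/-- The quadratic form `xᵀ a x` as a polynomial. -/
noncomputable def formPoly (a : Matrix n n R) : MvPolynomial n R :=
  ∑ i : n, ∑ j : n, C (a i j) * X i * X j

/-- The linear substitution `X i ↦ ∑ g i j X j`. -/
noncomputable def linHom (g : Matrix n n' R) : MvPolynomial n R →ₐ[R] MvPolynomial n' R :=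
  aeval fun i => ∑ j : n', C (g i j) * X j

@[simp]
theorem linHom_X (g : Matrix n n' R) (i : n) : linHom g (X i) = ∑ j : n', C (g i j) * X j := by
  simp [linHom]

@[simp]
theorem linHom_C (g : Matrix n n' R) (r : R) : linHom g (C r) = C r :=
  (linHom g).commutes r

theorem linHom_comp (g : Matrix n n' R) (g' : Matrix n' κ R) :
    (linHom g').comp (linHom g) = linHom (g * g') := by
  apply MvPolynomial.algHom_ext
  intro i
  simp only [AlgHom.comp_apply, linHom_X, map_sum, map_mul, linHom_C, Matrix.mul_apply,
    Finset.mul_sum, Finset.sum_mul]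
  rw [Finset.sum_comm]
  refine Finset.sum_congr rfl fun k _ => Finset.sum_congr rfl fun j _ => ?_
  ring

theorem linHom_one : linHom (1 : Matrix n n R) = AlgHom.id R _ := by
  apply MvPolynomial.algHom_ext
  intro i
  simp [Matrix.one_apply]

/-- The linear change of coordinates attached to an invertible matrix. -/
noncomputable def linEquiv (g : Matrix n n' R) (g' : Matrix n' n R) (h1 : g * g' = 1)
    (h2 : g' * g = 1) : MvPolynomial n R ≃ₐ[R] MvPolynomial n' R :=
  AlgEquiv.ofAlgHom (linHom g) (linHom g') (by rw [linHom_comp, h2, linHom_one])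
    (by rw [linHom_comp, h1, linHom_one])

theorem linHom_formPoly (g : Matrix n n' R) (a : Matrix n n R) :
    linHom g (formPoly a) = formPoly (g.transpose * a * g) := by
  simp only [formPoly, map_sum, map_mul, linHom_C, linHom_X, Matrix.mul_apply,
    Matrix.transpose_apply, Finset.mul_sum, Finset.sum_mul, map_sum, map_mul]
  have h1 : ∀ (f : n → n → n' → n' → MvPolynomial n' R),
      ∑ i, ∑ j, ∑ k, ∑ l, f i j k l = ∑ k, ∑ l, ∑ j, ∑ i, f i j k l := by
    intro f
    calc ∑ i, ∑ j, ∑ k, ∑ l, f i j k l = ∑ j, ∑ i, ∑ k, ∑ l, f i j k l := Finset.sum_comm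
      _ = ∑ j, ∑ k, ∑ i, ∑ l, f i j k l :=
        Finset.sum_congr rfl fun j _ => Finset.sum_comm
      _ = ∑ k, ∑ j, ∑ i, ∑ l, f i j k l := Finset.sum_comm
      _ = ∑ k, ∑ j, ∑ l, ∑ i, f i j k l :=
        Finset.sum_congr rfl fun k _ => Finset.sum_congr rfl fun j _ => Finset.sum_comm
      _ = ∑ k, ∑ l, ∑ j, ∑ i, f i j k l :=
        Finset.sum_congr rfl fun k _ => Finset.sum_comm
  have h2 : ∀ (f : n → n → n' → n' → MvPolynomial n' R),
      ∑ i, ∑ j, ∑ k, ∑ l, f i j k l = ∑ l, ∑ k, ∑ j, ∑ i, f i j k l := by
    intro f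
    rw [h1, Finset.sum_comm]
  rw [h2]
  refine Finset.sum_congr rfl fun k _ => Finset.sum_congr rfl fun l _ =>
    Finset.sum_congr rfl fun j _ => Finset.sum_congr rfl fun i _ => ?_
  ring

theorem formPoly_isAlt (a : Matrix n n R) (h : IsAlt a) : formPoly a = 0 := by
  obtain ⟨d, rfl⟩ := h
  have h1 : formPoly (d - d.transpose) = formPoly d - formPoly d.transpose := by
    simp only [formPoly, Matrix.sub_apply, map_sub, sub_mul, Finset.sum_sub_distrib]
  rw [h1, sub_eq_zero]
  unfold formPoly
  rw [Finset.sum_comm]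
  refine Finset.sum_congr rfl fun i _ => Finset.sum_congr rfl fun j _ => ?_
  rw [Matrix.transpose_apply]
  ring

theorem formPoly_sub (a b : Matrix n n R) : formPoly (a - b) = formPoly a - formPoly b := by
  simp only [formPoly, Matrix.sub_apply, map_sub, sub_mul, Finset.sum_sub_distrib]

theorem formPoly_hyp : formPoly (Matrix.fromBlocks 0 1 0 0 : Matrix (κ ⊕ κ) (κ ⊕ κ) R) =
    ∑ k : κ, X (Sum.inl k) * X (Sum.inr k) := by
  simp [formPoly, Fintype.sum_sum_type, Matrix.one_apply]

/-- The quotient of `R[x]` by `f`, transported along an isomorphism. -/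
noncomputable def quotEquiv {A B : Type*} [CommRing A] [CommRing B] [Algebra R A] [Algebra R B]
    (e : A ≃ₐ[R] B) (f : A) (g : B) (h : e f = g) :
    (A ⧸ Ideal.span {f}) ≃ₐ[R] (B ⧸ Ideal.span {g}) :=
  Ideal.quotientEquivAlg _ _ e (by
    rw [Ideal.map_span, Set.image_singleton]
    exact congrArg (fun t => Ideal.span {t}) h.symm)

/-- The standard split affine quadric `∑ x_k y_k = b`. -/
abbrev splitRing (R : Type u) [CommRing R] (κ : Type) [Fintype κ] (b : R) : Type u :=
  MvPolynomial (κ ⊕ κ) R ⧸ Ideal.span {∑ k : κ, X (Sum.inl k) * X (Sum.inr k) - C b}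

theorem nonempty_equiv_of_split (a : Matrix n n R) (h : Split a κ) (b : R) :
    Nonempty ((MvPolynomial n R ⧸ Ideal.span {formPoly a - C b}) ≃ₐ[R] splitRing R κ b) := by
  obtain ⟨g, g', h1, h2, h3⟩ := h
  refine ⟨quotEquiv (linEquiv g g' h1 h2) _ _ ?_⟩
  have h4 := formPoly_isAlt _ h3
  rw [formPoly_sub, sub_eq_zero, formPoly_hyp] at h4
  rw [map_sub, linEquiv, AlgEquiv.ofAlgHom_apply, AlgEquiv.ofAlgHom_apply, linHom_formPoly, linHom_C,
    h4]

end Linear

section Quad

variable {R : Type u} [CommRing R] {N : ℕ}

/-- The upper triangular matrix of a coefficient table. -/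
def upper (a : Fin N → Fin N → R) : Matrix (Fin N) (Fin N) R := fun i j => if i ≤ j then a i j else 0

theorem formPoly_upper (a : Fin N → Fin N → R) : formPoly (upper a) = VanCyc.quadPoly a := by
  unfold formPoly VanCyc.quadPoly upper
  refine Finset.sum_congr rfl fun i _ => Finset.sum_congr rfl fun j _ => ?_
  split_ifs with h
  · rfl
  · simp

theorem upper_add_transpose (a : Fin N → Fin N → R) :
    upper a + (upper a).transpose = VanCyc.polarMatrix a := by
  ext i j
  simp only [upper, VanCyc.polarMatrix, Matrix.add_apply, Matrix.transpose_apply]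
  rcases lt_trichotomy i j with h | h | h
  · rw [if_pos h.le, if_neg (not_le.2 h), if_neg h.ne, if_pos h, add_zero]
  · subst h
    simp [two_mul]
  · rw [if_neg (not_le.2 h), if_pos h.le, if_neg h.ne', if_neg (not_lt.2 h.le), zero_add]

/-- A non-degenerate quadratic form in `2m` variables over a strictly henselian local ring is split. -/
theorem split_upper [HenselianLocalRing R] [IsSepClosed (ResidueField R)] (m : ℕ) (hN : N = 2 * m)
    (a : Fin N → Fin N → R) (ha : VanCyc.QuadNondeg a) : Split (upper a) (Fin m) :=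
  split_of_isUnit_det m (Fin N) (by rw [Fintype.card_fin, hN]) _ (by
    rw [upper_add_transpose]
    exact ha)

/-- **Normal form**, even number of variables: `R[x]/(Q - b) ≃ₐ[R] R[x_k, y_k]/(∑ x_k y_k - b)`. -/
theorem nonempty_quadRing_equiv [HenselianLocalRing R] [IsSepClosed (ResidueField R)] (m : ℕ)
    (hN : N = 2 * m) (a : Fin N → Fin N → R) (ha : VanCyc.QuadNondeg a) (b : R) :
    Nonempty (VanCyc.quadRing R a b ≃ₐ[R] splitRing R (Fin m) b) := by
  have h := nonempty_equiv_of_split (upper a) (split_upper m hN a ha) b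
  rwa [formPoly_upper] at h

end Quad

end Groth.Agent.Vancyc.H686.NormalForm
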