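import Groth.Agent.Vancyc.H686.GeoR
import Groth.Agent.Vancyc.H686.NormalForm

/-!
# Base change of `{∑ a_j y_j = g}` and the split quadric as such a scheme over affine space

* `eqn a g = ∑ a_j X_j - g` (same expression as `H263.LinearFib.eqn`);
* `isPullback_quot` : base change of `Spec B[y]/(∑ a_j y_j - g)` along `Spec B' ⟶ Spec B`;
* `splitEquiv` : `R[x, y]/(∑ x_k y_k - b) ≃ₐ[R] R[x][y]/(∑ x_k y_k - b)`.
-/

set_option autoImplicit false
universe u

open CategoryTheory CategoryTheory.Limits AlgebraicGeometry MvPolynomial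

namespace Groth.Agent.Vancyc.H686.AffQuotAlg

open Groth.Agent.Vancyc.H686.GeoR Groth.Agent.Vancyc.H686.NormalForm

section BC

variable {B B' : Type u} [CommRing B] [CommRing B'] (φ : B →+* B') {m : ℕ} (a : Fin (m + 1) → B) (g : B)

/-- The map `B[y]/(∑ a_j y_j - g) ⟶ B'[y]/(∑ φ(a_j) y_j - φ(g))`. -/
noncomputable def quotMap :
    (MvPolynomial (Fin (m + 1)) B ⧸ Ideal.span {∑ j, C (a j) * X j - C g}) →+*
      (MvPolynomial (Fin (m + 1)) B' ⧸ Ideal.span {∑ j, C (φ (a j)) * X j - C (φ g)}) :=
  Ideal.Quotient.lift _ ((Ideal.Quotient.mk _).comp (MvPolynomial.map φ)) (by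
    intro x hx
    obtain ⟨y, rfl⟩ := Ideal.mem_span_singleton'.mp hx
    rw [map_mul, RingHom.comp_apply, RingHom.comp_apply, map_sub, map_sum]
    simp only [map_mul, map_C, map_X]
    rw [Ideal.Quotient.eq_zero_iff_mem.2 (Ideal.mem_span_singleton_self _), mul_zero])

@[simp]
theorem quotMap_mk (p : MvPolynomial (Fin (m + 1)) B) :
    quotMap φ a g (Ideal.Quotient.mk _ p) = Ideal.Quotient.mk _ (MvPolynomial.map φ p) := rfl

theorem isPullback_quot :
    IsPullback (Spec.map (CommRingCat.ofHom (quotMap φ a g)))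
      (Spec.map (CommRingCat.ofHom (algebraMap B'
        (MvPolynomial (Fin (m + 1)) B' ⧸ Ideal.span {∑ j, C (φ (a j)) * X j - C (φ g)}))))
      (Spec.map (CommRingCat.ofHom (algebraMap B
        (MvPolynomial (Fin (m + 1)) B ⧸ Ideal.span {∑ j, C (a j) * X j - C g}))))
      (Spec.map (CommRingCat.ofHom φ)) := by
  refine isPullback_of_univ _ _ _ _ ?_ ?_ ?_
  · ext r
    change Ideal.Quotient.mk _ (MvPolynomial.map φ (C r)) = Ideal.Quotient.mk _ (C (φ r))
    rw [map_C]
  · intro T _ f k h
    have hC : ∀ r : B, f (Ideal.Quotient.mk _ (C r)) = k (φ r) := fun r => RingHom.congr_fun h r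
    let F : MvPolynomial (Fin (m + 1)) B' →+* T :=
      eval₂Hom k (fun j => f (Ideal.Quotient.mk _ (X j)))
    refine ⟨Ideal.Quotient.lift _ F ?_, ?_, ?_⟩
    · intro x hx
      obtain ⟨y, rfl⟩ := Ideal.mem_span_singleton'.mp hx
      have h0 : f (Ideal.Quotient.mk _ (∑ j, C (a j) * X j - C g)) = 0 := by
        rw [Ideal.Quotient.eq_zero_iff_mem.2 (Ideal.mem_span_singleton_self _), map_zero]
      have h1 : F (∑ j, C (φ (a j)) * X j - C (φ g)) = 0 := by
        rw [← h0]
        simp only [F, map_sub, map_sum, map_mul, coe_eval₂Hom, eval₂_C, eval₂_X, hC]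
      rw [map_mul, h1, mul_zero]
    · apply Ideal.Quotient.ringHom_ext
      refine MvPolynomial.ringHom_ext ?_ ?_
      · intro r
        change F (MvPolynomial.map φ (C r)) = f (Ideal.Quotient.mk _ (C r))
        rw [map_C, hC]
        simp [F]
      · intro j
        change F (MvPolynomial.map φ (X j)) = f (Ideal.Quotient.mk _ (X j))
        rw [map_X]
        simp [F]
    · ext r
      change F (C r) = k r
      simp [F]
  · intro T _ k k' h1 h2
    apply Ideal.Quotient.ringHom_ext
    refine MvPolynomial.ringHom_ext ?_ ?_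
    · intro r
      exact RingHom.congr_fun h2 r
    · intro j
      have := RingHom.congr_fun h1 (Ideal.Quotient.mk _ (X j))
      simpa using this

end BC

section Split

variable (R : Type u) [CommRing R] (n : ℕ) (b : R)

/-- The split quadric as an equation over affine space. -/
noncomputable def splitEquiv :
    splitRing R (Fin n) b ≃ₐ[R] (MvPolynomial (Fin n) (MvPolynomial (Fin n) R) ⧸
      Ideal.span {∑ j, C (X j) * X j - C (C b)}) :=
  quotEquiv (sumAlgEquiv R (Fin n) (Fin n)) _ _ (by
    rw [map_sub, map_sum]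
    congr 1
    · refine Finset.sum_congr rfl fun k _ => ?_
      rw [map_mul, mul_comm, sumAlgEquiv_X_inl, sumAlgEquiv_X_inr]
    · rw [sumAlgEquiv_C_inl])

end Split

end Groth.Agent.Vancyc.H686.AffQuotAlg
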