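import Groth.Agent.Vancyc.H686.EvenGeo
import Groth.Agent.Vancyc.H686.VanFinal
import Groth.Agent.Vancyc.H685.AcycOpen

/-!
# The opens `U₀`, `U₁` of the quadric `∑ α_i y_i = s (1 - s)` have the cohomology of the base
-/

set_option autoImplicit false
set_option backward.isDefEq.respectTransparency false
set_option backward.isDefEq.respectTransparency.types false
universe u

open CategoryTheory CategoryTheory.Limits AlgebraicGeometry MvPolynomial

namespace Groth.Agent.Vancyc.H686.EvenAcyc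

open Groth.Agent.Etcore.PullCoh
open scoped Groth.Agent.Etcore.EtInst
open Groth.Agent.Etcore.EtInst Groth.Agent.Etcore.HpullCalc Groth.Agent.Etcore
open Groth.Agent.Vancyc.H685 Groth.Agent.Vancyc.H686.GeoR Groth.Agent.Vancyc.H263.AffBundle
  Groth.Agent.Vancyc.H686.EvenGeo Groth.Agent.Vancyc.H686.VanFinal

variable (C : Type u) [CommRing C] {m : ℕ} (α : Fin m → C) {N : ℕ}
  (hN : IsUnit (N : Γ(Spec (CommRingCat.of C), ⊤)))

include hN in
/-- `V ⟶ T₀` is acyclic. -/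
theorem acyc_p : Groth.Agent.Sga4B.AcycMor.Acyc N (p C α ∣_ T₀ C α) :=
  (isAffBundle_p C α).acyc (isUnit_of_hom (T₀ C α).ι hN)

include hN in
/-- `U₀` has the cohomology of the base. -/
theorem bijective_hp_U₀ (G : EtCoh.Ab (Spec (CommRingCat.of C))) (hG : EtCoh.KilledBy N G) (i : ℕ) :
    haveI := Groth.Agent.S0101.result ((U₀ C α).ι ≫ p C α)
    Function.Bijective (hp ((U₀ C α).ι ≫ p C α) G i) := by
  have h1 : IsAff m (φ C α ≫ p C α) := by
    rw [φ_p]
    exact isAff_str m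
  have h2 : IsAff m ((φ C α ≫ p C α) ∣_ T₀ C α) :=
    h1.of_isPullback (isPullback_morphismRestrict (φ C α ≫ p C α) (T₀ C α)).flip
  exact AcycOpen.bijective_hp_U₀ (φ C α) (p C α) (bo (QuadAlg.s C α)) (T₀ C α) (isIso_φ C α)
    (h1.acyc hN) (h2.acyc (isUnit_of_hom (T₀ C α).ι hN)) (acyc_p C α hN) (φ_mem C α) G hG i

/-- The isomorphism `U₁ ≅ U₀` induced by the involution. -/
noncomputable def τ₁ : (U₁ C α : Scheme.{u}) ⟶ (U₀ C α : Scheme.{u}) :=
  IsOpenImmersion.lift (U₀ C α).ι ((U₁ C α).ι ≫ τ C α) (by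
    rintro _ ⟨x, rfl⟩
    rw [Scheme.Opens.range_ι]
    have h : x.1 ∈ τ C α ⁻¹ᵁ U₀ C α := by
      rw [τ_U₀]
      exact x.2
    exact h)

theorem τ₁_ι : τ₁ C α ≫ (U₀ C α).ι = (U₁ C α).ι ≫ τ C α := IsOpenImmersion.lift_fac _ _ _

instance : IsIso (τ₁ C α) := by
  have h : IsPullback (τ₁ C α) (U₁ C α).ι (U₀ C α).ι (τ C α) := by
    refine IsOpenImmersion.isPullback _ _ _ _ (τ₁_ι C α).symm ?_
    rw [Scheme.Opens.opensRange_ι, Scheme.Opens.opensRange_ι, τ_U₀]
  exact h.isIso_fst_of_isIso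

include hN in
/-- `U₁` has the cohomology of the base. -/
theorem bijective_hp_U₁ (G : EtCoh.Ab (Spec (CommRingCat.of C))) (hG : EtCoh.KilledBy N G) (i : ℕ) :
    haveI := Groth.Agent.S0101.result ((U₁ C α).ι ≫ p C α)
    Function.Bijective (hp ((U₁ C α).ι ≫ p C α) G i) := by
  have i1 := Groth.Agent.S0101.result ((U₁ C α).ι ≫ p C α)
  have i0 := Groth.Agent.S0101.result ((U₀ C α).ι ≫ p C α)
  have i2 := Groth.Agent.S0101.result (τ₁ C α)
  refine AcycOpen.bijective_comp (τ₁ C α) ((U₀ C α).ι ≫ p C α) ((U₁ C α).ι ≫ p C α) ?_ G i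
    (HpVia.hp_bijective_of_isIso (τ₁ C α) _ i) (bijective_hp_U₀ C α hN G hG i)
  rw [← Category.assoc, τ₁_ι, Category.assoc, τ_p]

end Groth.Agent.Vancyc.H686.EvenAcyc
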