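import Groth.Agent.Vancyc.H686.VanMV
import Groth.Agent.EtpbcB.HRel

/-!
# Consequences of the Mayer-Vietoris sequence for open immersions
-/

set_option autoImplicit false
universe u
open CategoryTheory CategoryTheory.Limits AlgebraicGeometry Opposite

namespace Groth.Agent.Vancyc.H686.EvenMV

open Groth.Agent.Vancyc.H686.VanMV

variable {X U V W : Scheme.{u}} (j : U ⟶ X) (k : V ⟶ X) (w : W ⟶ X) [IsOpenImmersion j]
  [IsOpenImmersion k] [IsOpenImmersion w] (hjk : Set.range w = Set.range j ∩ Set.range k)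
  (hcov : Set.range j ∪ Set.range k = Set.univ) (F : EtCoh.Ab X)

include hjk hcov in
/-- The boundary map is bijective. -/
theorem equiv_succ (n : ℕ) (h1 : Subsingleton (EtCoh.H U ((EtCoh.pull j).obj F) n))
    (h2 : Subsingleton (EtCoh.H V ((EtCoh.pull k).obj F) n))
    (h3 : Subsingleton (EtCoh.H U ((EtCoh.pull j).obj F) (n + 1)))
    (h4 : Subsingleton (EtCoh.H V ((EtCoh.pull k).obj F) (n + 1))) :
    Nonempty (EtCoh.H W ((EtCoh.pull w).obj F) n ≃+ EtCoh.H X F (n + 1)) := by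
  obtain ⟨δ, -, e1, -, e3⟩ := mv j k w hjk hcov F
  refine ⟨AddEquiv.ofBijective (δ n) ⟨?_, ?_⟩⟩
  · rw [← AddMonoidHom.ker_eq_bot_iff, e3 n, eq_bot_iff]
    rintro _ ⟨y, rfl⟩
    have hy : y = 0 := Prod.ext (Subsingleton.elim _ _) (Subsingleton.elim _ _)
    rw [hy, map_zero]
    exact AddSubgroup.zero_mem _
  · intro x
    have hx : x ∈ (AddMonoidHom.prod (EtCore.Hpull j F (n + 1)) (EtCore.Hpull k F (n + 1))).ker :=
      Prod.ext (Subsingleton.elim _ _) (Subsingleton.elim _ _)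
    rw [e1 n] at hx
    exact hx

include hcov in
/-- Vanishing of `H^{n+1}(X)` if `H^n(V) → H^n(W)` is surjective. -/
theorem subsingleton_succ (n : ℕ)
    (h3 : Subsingleton (EtCoh.H U ((EtCoh.pull j).obj F) (n + 1)))
    (h4 : Subsingleton (EtCoh.H V ((EtCoh.pull k).obj F) (n + 1)))
    (hs : Function.Surjective
      (EtCore.HpullVia (lb j k w hjk) k w (IsOpenImmersion.lift_fac _ _ _) F n)) :
    Subsingleton (EtCoh.H X F (n + 1)) := by
  obtain ⟨δ, -, e1, -, e3⟩ := mv j k w hjk hcov F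
  refine subsingleton_of_forall_eq 0 fun x => ?_
  have hx : x ∈ (AddMonoidHom.prod (EtCore.Hpull j F (n + 1)) (EtCore.Hpull k F (n + 1))).ker :=
    Prod.ext (Subsingleton.elim _ _) (Subsingleton.elim _ _)
  rw [e1 n] at hx
  obtain ⟨y, rfl⟩ := hx
  have hy : y ∈ (δ n).ker := by
    rw [e3 n]
    obtain ⟨b, hb⟩ := hs (-y)
    refine ⟨(0, b), ?_⟩
    rw [AddMonoidHom.sub_apply, AddMonoidHom.comp_apply, AddMonoidHom.comp_apply]
    change _ - EtCore.HpullVia (lb j k w hjk) k w (IsOpenImmersion.lift_fac _ _ _) F n b = y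
    rw [hb]
    change EtCore.HpullVia (la j k w hjk) j w (IsOpenImmersion.lift_fac _ _ _) F n 0 - -y = y
    rw [map_zero, sub_neg_eq_add, zero_add]
  exact hy

include hcov in
/-- `H^0(X) → H^0(U)` is bijective if `H^0(V) → H^0(W)` is. -/
theorem bijective_zero
    (hb : Function.Bijective
      (EtCore.HpullVia (lb j k w hjk) k w (IsOpenImmersion.lift_fac _ _ _) F 0)) :
    Function.Bijective (EtCore.Hpull j F 0) := by
  obtain ⟨δ, e0, -, e2, -⟩ := mv j k w hjk hcov F
  constructor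
  · rw [injective_iff_map_eq_zero]
    intro x hx
    have h1 : (EtCore.Hpull j F 0 x, EtCore.Hpull k F 0 x) ∈
        (((EtCore.HpullVia (la j k w hjk) j w (IsOpenImmersion.lift_fac _ _ _) F 0)).comp
          (AddMonoidHom.fst _ _) -
          ((EtCore.HpullVia (lb j k w hjk) k w (IsOpenImmersion.lift_fac _ _ _) F 0)).comp
          (AddMonoidHom.snd _ _)).ker := by
      rw [e2 0]
      exact ⟨x, rfl⟩
    have h2 : EtCore.HpullVia (la j k w hjk) j w (IsOpenImmersion.lift_fac _ _ _) F 0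
          (EtCore.Hpull j F 0 x) -
        EtCore.HpullVia (lb j k w hjk) k w (IsOpenImmersion.lift_fac _ _ _) F 0
          (EtCore.Hpull k F 0 x) = 0 := h1
    rw [hx, map_zero, zero_sub, neg_eq_zero] at h2
    have h3 : EtCore.Hpull k F 0 x = 0 := hb.1 (h2.trans (map_zero _).symm)
    have h4 : x ∈ (AddMonoidHom.prod (EtCore.Hpull j F 0) (EtCore.Hpull k F 0)).ker :=
      Prod.ext hx h3
    rw [e0] at h4
    exact h4
  · intro a
    obtain ⟨b, hb'⟩ := hb.2 (EtCore.HpullVia (la j k w hjk) j w (IsOpenImmersion.lift_fac _ _ _) F 0 a)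
    have h1 : (a, b) ∈
        (((EtCore.HpullVia (la j k w hjk) j w (IsOpenImmersion.lift_fac _ _ _) F 0)).comp
          (AddMonoidHom.fst _ _) -
          ((EtCore.HpullVia (lb j k w hjk) k w (IsOpenImmersion.lift_fac _ _ _) F 0)).comp
          (AddMonoidHom.snd _ _)).ker := by
      change EtCore.HpullVia (la j k w hjk) j w (IsOpenImmersion.lift_fac _ _ _) F 0 a -
        EtCore.HpullVia (lb j k w hjk) k w (IsOpenImmersion.lift_fac _ _ _) F 0 b = 0
      rw [hb', sub_self]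
    rw [e2 0] at h1
    obtain ⟨x, hx⟩ := h1
    exact ⟨x, congrArg Prod.fst hx⟩

end Groth.Agent.Vancyc.H686.EvenMV
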