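import Groth.Agent.Vancyc.H686.EvenVan
import Groth.Agent.Vancyc.H686.EvenMV
import Groth.Agent.Vancyc.H263.PunctStd

/-!
# Cohomology of the quadric `∑ α_i y_i = s (1 - s)` over a base `T = Spec C`

`Eqv F n G k : Prop` says that `H^n(X, F)` and `H^k(Y, G)` are isomorphic, `HB f G n` that
`H^n(Y, G) → H^n(X, f⁻¹ G)` is bijective (both are plain propositions, which keeps the statements light).
-/

set_option autoImplicit false
universe u

open CategoryTheory CategoryTheory.Limits AlgebraicGeometry MvPolynomial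

namespace Groth.Agent.Vancyc.H686.EvenCoh

open Groth.Agent.Vancyc.H685 Groth.Agent.Vancyc.H685.StdModel Groth.Agent.Vancyc.H686.GeoR
  Groth.Agent.Vancyc.H263.AffBundle
  Groth.Agent.Vancyc.H686.Van Groth.Agent.Vancyc.H686.VanMV
  Groth.Agent.Vancyc.H686.EvenGeo Groth.Agent.Vancyc.H686.EvenAcyc Groth.Agent.Vancyc.H686.VanFinal
  Groth.Agent.Vancyc.H686.EvenVan Groth.Agent.Vancyc.H675.AcycPt Groth.Agent.Vancyc.H686.EvenMV

section Props

/-- `H^n(X, F)` and `H^k(Y, G)` are isomorphic. -/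
def Eqv {X Y : Scheme.{u}} (F : EtCoh.Ab X) (n : ℕ) (G : EtCoh.Ab Y) (k : ℕ) : Prop :=
  Nonempty (EtCoh.H X F n ≃+ EtCoh.H Y G k)

open Groth.Agent.Etcore.PullCoh in
open scoped Groth.Agent.Etcore.EtInst in
open Groth.Agent.Etcore.EtInst Groth.Agent.Etcore.HpullCalc Groth.Agent.Etcore in
/-- `H^n(Y, G) → H^n(X, f⁻¹ G)` is bijective. -/
def HB {X Y : Scheme.{u}} (f : X ⟶ Y) (G : EtCoh.Ab Y) (n : ℕ) : Prop :=
  Function.Bijective (hp f G n)

variable {X Y Z : Scheme.{u}} {F : EtCoh.Ab X} {G : EtCoh.Ab Y} {K : EtCoh.Ab Z} {n k l : ℕ}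

theorem Eqv.symm (h : Eqv F n G k) : Eqv G k F n := ⟨h.some.symm⟩

theorem Eqv.trans (h : Eqv F n G k) (h' : Eqv G k K l) : Eqv F n K l := ⟨h.some.trans h'.some⟩

theorem Eqv.subsingleton (h : Eqv F n G k) (h' : Subsingleton (EtCoh.H Y G k)) :
    Subsingleton (EtCoh.H X F n) := h.some.toEquiv.subsingleton

theorem Eqv.of_iso {F' : EtCoh.Ab X} (e : F ≅ F') : Eqv F n F' n :=
  ⟨EtpbcB.IsoTransport.HMapIso e n⟩

theorem hb_iff (f : X ⟶ Y) : HB f G n ↔ Function.Bijective (EtCore.Hpull f G n) := Iff.rfl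

theorem HB.eqv {f : X ⟶ Y} (h : HB f G n) : Eqv G n ((EtCoh.pull f).obj G) n :=
  ⟨AddEquiv.ofBijective _ ((hb_iff f).1 h)⟩

theorem HB.comp {f : X ⟶ Y} {g : Y ⟶ Z} {h : X ⟶ Z} (w : f ≫ g = h) (hf : HB f ((EtCoh.pull g).obj K) n)
    (hg : HB g K n) : HB h K n := AcycOpen.bijective_comp f g h w K n hf hg

theorem HB.of_comp_right {f : X ⟶ Y} {g : Y ⟶ Z} {h : X ⟶ Z} (w : f ≫ g = h) (hg : HB g K n)
    (hh : HB h K n) : HB f ((EtCoh.pull g).obj K) n :=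
  AcycOpen.bijective_of_comp_right f g h w K n hg hh

theorem HB.transport {X' : Scheme.{u}} {f : X ⟶ Y} (g : Y ⟶ Z) (g' : Y ⟶ X') (g'' : X' ⟶ Z)
    (w : g' ≫ g'' = g) (h : HB f ((EtCoh.pull g).obj K) n) :
    HB f ((EtCoh.pull g').obj ((EtCoh.pull g'').obj K)) n :=
  AcycOpen.bijective_hp_transport f g g' g'' w K n h

theorem HB.of_acyc {N : ℕ} {f : X ⟶ Y} (h : Sga4B.AcycMor.Acyc N f) (hG : EtCoh.KilledBy N G) : HB f G n :=
  (hb_iff f).2 (h.Hpull_bijective G hG n)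

/-- `H^q(W, G|Y|W) ≃ H^q(W, G|W)` -/
theorem eqv_comp (i : X ⟶ Y) (f : Y ⟶ Z) (K : EtCoh.Ab Z) (q : ℕ) :
    Eqv ((EtCoh.pull i).obj ((EtCoh.pull f).obj K)) q ((EtCoh.pull (i ≫ f)).obj K) q :=
  Eqv.of_iso ((EtpbcA.PullFLC.pullComp i f).app K)

theorem HB.eqv_comp {i : X ⟶ Y} {f : Y ⟶ Z} {q : ℕ} (h : HB (i ≫ f) K q) :
    Eqv ((EtCoh.pull i).obj ((EtCoh.pull f).obj K)) q K q :=
  (EvenCoh.eqv_comp i f K q).trans h.eqv.symm

end Props

section MV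

variable {X U V W : Scheme.{u}} (j : U ⟶ X) (k : V ⟶ X) (w : W ⟶ X) [IsOpenImmersion j]
  [IsOpenImmersion k] [IsOpenImmersion w] (hjk : Set.range w = Set.range j ∩ Set.range k)
  (hcov : Set.range j ∪ Set.range k = Set.univ) (F : EtCoh.Ab X)

include hjk hcov in
theorem eqv_mv (n : ℕ) (h1 : Subsingleton (EtCoh.H U ((EtCoh.pull j).obj F) n))
    (h2 : Subsingleton (EtCoh.H V ((EtCoh.pull k).obj F) n))
    (h3 : Subsingleton (EtCoh.H U ((EtCoh.pull j).obj F) (n + 1)))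
    (h4 : Subsingleton (EtCoh.H V ((EtCoh.pull k).obj F) (n + 1))) :
    Eqv F (n + 1) ((EtCoh.pull w).obj F) n :=
  Eqv.symm (equiv_succ j k w hjk hcov F n h1 h2 h3 h4)

include hcov in
theorem hb_mv_zero (hb : HB (lb j k w hjk) ((EtCoh.pull k).obj F) 0) : HB j F 0 :=
  (hb_iff j).2 (bijective_zero j k w hjk hcov F
    (Etrest.HpullConst.bijective_HpullVia _ _ _ _ _ _ ((hb_iff _).1 hb)))

include hcov in
theorem subsingleton_mv_one (h3 : Subsingleton (EtCoh.H U ((EtCoh.pull j).obj F) 1))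
    (h4 : Subsingleton (EtCoh.H V ((EtCoh.pull k).obj F) 1))
    (hb : HB (lb j k w hjk) ((EtCoh.pull k).obj F) 0) : Subsingleton (EtCoh.H X F 1) :=
  subsingleton_succ j k w hjk hcov F 0 h3 h4
    (Etrest.HpullConst.bijective_HpullVia _ _ _ _ _ _ ((hb_iff _).1 hb)).2

end MV

section Gen

variable (C : Type u) [CommRing C] {m : ℕ} (α : Fin m → C) {N : ℕ}
  (hN : IsUnit (N : Γ(Spec (CommRingCat.of C), ⊤))) (G : EtCoh.Ab (Spec (CommRingCat.of C)))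
  (hG : EtCoh.KilledBy N G)

include hN hG in
theorem hb_U₀ (q : ℕ) : HB ((U₀ C α).ι ≫ p C α) G q := bijective_hp_U₀ C α hN G hG q

include hN hG in
theorem hb_U₁ (q : ℕ) : HB ((U₁ C α).ι ≫ p C α) G q := bijective_hp_U₁ C α hN G hG q

theorem V_ι_p : (V C α).ι ≫ p C α = (p C α ∣_ T₀ C α) ≫ (T₀ C α).ι :=
  (morphismRestrict_ι _ _).symm

include hN hG in
theorem eqv_V (q : ℕ) : Eqv ((EtCoh.pull (V C α).ι).obj ((EtCoh.pull (p C α)).obj G)) q
    ((EtCoh.pull (T₀ C α).ι).obj G) q := by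
  have e := eqv_comp (V C α).ι (p C α) G q
  have e' := eqv_comp (p C α ∣_ T₀ C α) (T₀ C α).ι G q
  have h1 : HB (p C α ∣_ T₀ C α) ((EtCoh.pull (T₀ C α).ι).obj G) q :=
    HB.of_acyc (acyc_p C α hN) (EtpbcB.NKillEt.killedBy_pull _ hG)
  rw [V_ι_p] at e
  exact (e.trans e'.symm).trans h1.eqv.symm

include hN hG in
/-- `H^{q+2}(Y) = H^{q+1}(T₀)` if the higher cohomology of the base vanishes. -/
theorem eqv_Y (q : ℕ) (h1 : Subsingleton (EtCoh.H (Spec (CommRingCat.of C)) G (q + 1)))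
    (h2 : Subsingleton (EtCoh.H (Spec (CommRingCat.of C)) G (q + 2))) :
    Eqv ((EtCoh.pull (p C α)).obj G) (q + 2) ((EtCoh.pull (T₀ C α).ι).obj G) (q + 1) :=
  (eqv_mv (U₀ C α).ι (U₁ C α).ι (V C α).ι (range_inter _ _ _ (inter C α))
    (range_union _ _ (cov C α)) ((EtCoh.pull (p C α)).obj G) (q + 1)
    ((hb_U₀ C α hN G hG (q + 1)).eqv_comp.subsingleton h1)
    ((hb_U₁ C α hN G hG (q + 1)).eqv_comp.subsingleton h1)
    ((hb_U₀ C α hN G hG (q + 2)).eqv_comp.subsingleton h2)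
    ((hb_U₁ C α hN G hG (q + 2)).eqv_comp.subsingleton h2)).trans (eqv_V C α hN G hG (q + 1))

variable (h0 : HB (T₀ C α).ι G 0)

include hN hG h0 in
/-- `H^0(T) → H^0(V)` is bijective. -/
theorem hb_V : HB ((V C α).ι ≫ p C α) G 0 :=
  HB.comp (V_ι_p C α).symm (HB.of_acyc (acyc_p C α hN) (EtpbcB.NKillEt.killedBy_pull _ hG)) h0

include hN hG h0 in
theorem hb_lb : HB (lb (U₀ C α).ι (U₁ C α).ι (V C α).ι (range_inter _ _ _ (inter C α)))
    ((EtCoh.pull (U₁ C α).ι).obj ((EtCoh.pull (p C α)).obj G)) 0 := by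
  refine HB.transport ((U₁ C α).ι ≫ p C α) (U₁ C α).ι (p C α) rfl ?_
  refine HB.of_comp_right ?_ (hb_U₁ C α hN G hG 0) (hb_V C α hN G hG h0)
  rw [← Category.assoc, IsOpenImmersion.lift_fac]

include hN hG h0 in
/-- `H^0(Y) = H^0(T)`. -/
theorem eqv_Y_zero : Eqv ((EtCoh.pull (p C α)).obj G) 0 G 0 :=
  (HB.eqv (hb_mv_zero (U₀ C α).ι (U₁ C α).ι (V C α).ι (range_inter _ _ _ (inter C α))
    (range_union _ _ (cov C α)) ((EtCoh.pull (p C α)).obj G) (hb_lb C α hN G hG h0))).trans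
    (hb_U₀ C α hN G hG 0).eqv_comp

include hN hG h0 in
/-- `H^1(Y) = 0`. -/
theorem subsingleton_Y_one (h1 : Subsingleton (EtCoh.H (Spec (CommRingCat.of C)) G 1)) :
    Subsingleton (EtCoh.H (Y C α) ((EtCoh.pull (p C α)).obj G) 1) :=
  subsingleton_mv_one (U₀ C α).ι (U₁ C α).ι (V C α).ι (range_inter _ _ _ (inter C α))
    (range_union _ _ (cov C α)) ((EtCoh.pull (p C α)).obj G)
    ((hb_U₀ C α hN G hG 1).eqv_comp.subsingleton h1)
    ((hb_U₁ C α hN G hG 1).eqv_comp.subsingleton h1) (hb_lb C α hN G hG h0)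

end Gen

end Groth.Agent.Vancyc.H686.EvenCoh
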