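import Groth.Agent.Vancyc.H685.StdModel
import Groth.Agent.Vancyc.H686.GeoBC

/-!
# Base change of `C[y, s]/(∑ α_i y_i - s (1 - s))` and of the standard quadric
-/

set_option autoImplicit false
universe u

open CategoryTheory CategoryTheory.Limits AlgebraicGeometry MvPolynomial

namespace Groth.Agent.Vancyc.H686.QRBC

open Groth.Agent.Vancyc.H685 Groth.Agent.Vancyc.H685.StdModel Groth.Agent.Vancyc.H686.GeoR
  Groth.Agent.Vancyc.H686.GeoBC

section ringLift

variable {C D : Type u} [CommRing C] [CommRing D] {m : ℕ} {α : Fin m → C}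

/-- Ring homomorphisms out of `QR C α`. -/
noncomputable def ringLift (g : C →+* D) (β : Fin m → D) (t : D)
    (h : ∑ i, g (α i) * β i = t * (1 - t)) : QuadAlg.QR C α →+* D :=
  letI := g.toAlgebra
  (QuadAlg.lift β t h : QuadAlg.QR C α →ₐ[C] D)

variable (g : C →+* D) (β : Fin m → D) (t : D) (h : ∑ i, g (α i) * β i = t * (1 - t))

theorem ringLift_algebraMap (c : C) : ringLift g β t h (algebraMap C _ c) = g c :=
  letI := g.toAlgebra
  (QuadAlg.lift β t h : QuadAlg.QR C α →ₐ[C] D).commutes c

theorem ringLift_comp : (ringLift g β t h).comp (algebraMap C _) = g :=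
  RingHom.ext fun c => ringLift_algebraMap g β t h c

theorem ringLift_y (i : Fin m) : ringLift g β t h (QuadAlg.y C α i) = β i :=
  letI := g.toAlgebra
  QuadAlg.lift_y β t h i

theorem ringLift_s : ringLift g β t h (QuadAlg.s C α) = t :=
  letI := g.toAlgebra
  QuadAlg.lift_s β t h

theorem ringHom_ext {f f' : QuadAlg.QR C α →+* D} (h0 : f.comp (algebraMap C _) = f'.comp (algebraMap C _))
    (h1 : ∀ i, f (QuadAlg.y C α i) = f' (QuadAlg.y C α i)) (h2 : f (QuadAlg.s C α) = f' (QuadAlg.s C α)) :
    f = f' := by
  apply Ideal.Quotient.ringHom_ext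
  refine MvPolynomial.ringHom_ext (fun c => RingHom.congr_fun h0 c) fun o => ?_
  cases o with
  | none => exact h2
  | some i => exact h1 i

end ringLift

section BC

variable {C C' : Type u} [CommRing C] [CommRing C'] {m : ℕ} (α : Fin m → C) (α' : Fin m → C')
  (f : C →+* C') (hf : ∀ i, f (α i) = α' i)

/-- Base change. -/
noncomputable def qrMap : QuadAlg.QR C α →+* QuadAlg.QR C' α' :=
  ringLift ((algebraMap C' (QuadAlg.QR C' α')).comp f) (QuadAlg.y C' α') (QuadAlg.s C' α') (by
    rw [← QuadAlg.relation]
    refine Finset.sum_congr rfl fun i _ => ?_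
    rw [RingHom.comp_apply, hf])

theorem isPullback_qr :
    IsPullback (Spec.map (CommRingCat.ofHom (qrMap α α' f hf)))
      (Spec.map (CommRingCat.ofHom (algebraMap C' (QuadAlg.QR C' α'))))
      (Spec.map (CommRingCat.ofHom (algebraMap C (QuadAlg.QR C α))))
      (Spec.map (CommRingCat.ofHom f)) := by
  refine isPullback_of_univ _ _ _ _ ?_ ?_ ?_
  · exact ringLift_comp _ _ _ _
  · intro T _ a b h
    refine ⟨ringLift b (fun i => a (QuadAlg.y C α i)) (a (QuadAlg.s C α)) ?_, ?_, ?_⟩
    · have h1 := congrArg a (QuadAlg.relation C α)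
      rw [map_sum, map_mul, map_sub, map_one] at h1
      rw [← h1]
      refine Finset.sum_congr rfl fun i _ => ?_
      rw [map_mul, ← hf i]
      congr 1
      exact (RingHom.congr_fun h (α i)).symm
    · refine ringHom_ext ?_ ?_ ?_
      · ext c
        rw [RingHom.comp_apply, RingHom.comp_apply, RingHom.comp_apply, qrMap, ringLift_algebraMap,
          RingHom.comp_apply, ringLift_algebraMap]
        exact (RingHom.congr_fun h c).symm
      · intro i
        rw [RingHom.comp_apply, qrMap, ringLift_y, ringLift_y]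
      · rw [RingHom.comp_apply, qrMap, ringLift_s, ringLift_s]
    · exact ringLift_comp _ _ _ _
  · intro T _ k k' h1 h2
    refine ringHom_ext h2 ?_ ?_
    · intro i
      have := RingHom.congr_fun h1 (QuadAlg.y C α i)
      rwa [RingHom.comp_apply, RingHom.comp_apply, qrMap, ringLift_y] at this
    · have := RingHom.congr_fun h1 (QuadAlg.s C α)
      rwa [RingHom.comp_apply, RingHom.comp_apply, qrMap, ringLift_s] at this

end BC

section Std

variable {R R' : Type u} [CommRing R] [CommRing R'] (m : ℕ) (φ : R →+* R')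

/-- Base change of the standard quadric. -/
noncomputable def stdMap : stdRing R m →+* stdRing R' m :=
  qrMap (fun i : Fin m => MvPolynomial.X i) (fun i : Fin m => MvPolynomial.X i) (MvPolynomial.map φ)
    (fun _ => MvPolynomial.map_X _ _)

theorem isPullback_std :
    IsPullback (Spec.map (CommRingCat.ofHom (stdMap m φ))) (stdStr R' m) (stdStr R m)
      (Spec.map (CommRingCat.ofHom φ)) := by
  have h1 : IsPullback (Spec.map (CommRingCat.ofHom (stdMap m φ))) (stdProj R' m) (stdProj R m)
      (mapA m φ) :=
    isPullback_qr (fun i : Fin m => MvPolynomial.X i) (fun i : Fin m => MvPolynomial.X i)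
      (MvPolynomial.map φ) (fun _ => MvPolynomial.map_X _ _)
  have h2 := h1.paste_vert (isPullback_mapA m φ)
  have e1 : stdProj R' m ≫ str m R' = stdStr R' m := stdProj_comp R' m
  have e2 : stdProj R m ≫ str m R = stdStr R m := stdProj_comp R m
  rwa [e1, e2] at h2

end Std

end Groth.Agent.Vancyc.H686.QRBC
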