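import Groth.Agent.Vancyc.H686.EvenCoh
import Groth.Agent.Vancyc.H686.QRBC

/-!
# Cohomology of the geometric fibres of the standard even-dimensional quadric
-/

set_option autoImplicit false
universe u

open CategoryTheory CategoryTheory.Limits AlgebraicGeometry MvPolynomial

namespace Groth.Agent.Vancyc.H686.EvenFib

open Groth.Agent.Vancyc.H685 Groth.Agent.Vancyc.H685.StdModel Groth.Agent.Vancyc.H686.GeoR
  Groth.Agent.Vancyc.H263.AffBundle
  Groth.Agent.Vancyc.H686.EvenGeo Groth.Agent.Vancyc.H686.EvenAcyc Groth.Agent.Vancyc.H686.VanFinal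
  Groth.Agent.Vancyc.H686.EvenCoh Groth.Agent.Vancyc.H686.QRBC Groth.Agent.Vancyc.H675.AcycPt
  Groth.Agent.Sga4B.PureStmt

/-- `H^n(X, F)` is isomorphic to `ℤ/N`. -/
def IsZ {X : Scheme.{u}} (F : EtCoh.Ab X) (n N : ℕ) : Prop := Nonempty (EtCoh.H X F n ≃+ ZMod N)

theorem IsZ.of_eqv {X Y : Scheme.{u}} {F : EtCoh.Ab X} {G : EtCoh.Ab Y} {n k N : ℕ} (h : IsZ G k N)
    (e : Eqv F n G k) : IsZ F n N := ⟨e.some.trans h.some⟩

/-- The shape of the cohomology. -/
def Sph (X : Scheme.{u}) (N n : ℕ) : Prop :=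
  (∀ q : ℕ, q ≠ 0 → q ≠ n → Subsingleton (EtCoh.H X (EtCoh.const X (ZMod N)) q)) ∧
    IsZ (EtCoh.const X (ZMod N)) n N ∧ IsZ (EtCoh.const X (ZMod N)) 0 N

theorem Sph.of_eqv {X Y : Scheme.{u}} {N n : ℕ} (h : Sph X N n)
    (e : ∀ q : ℕ, Eqv (EtCoh.const Y (ZMod N)) q (EtCoh.const X (ZMod N)) q) : Sph Y N n :=
  ⟨fun q h0 hn => (e q).subsingleton (h.1 q h0 hn), h.2.1.of_eqv (e n), h.2.2.of_eqv (e 0)⟩

/-- Cohomology of constant sheaves along isomorphisms. -/
theorem eqv_of_isIso {X Y : Scheme.{u}} (e : X ⟶ Y) [IsIso e] (M : Type) [AddCommGroup M] (q : ℕ) :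
    Eqv (EtCoh.const Y M) q (EtCoh.const X M) q := by
  have h1 : HB e (EtCoh.const Y M) q := Etcore.HpVia.hp_bijective_of_isIso e (EtCoh.const Y M) q
  exact h1.eqv.trans (Eqv.of_iso (EtCore.pullConst e M))

section Std

variable {Ω : Type u} [Field Ω] [IsSepClosed Ω] (m : ℕ) (hm : 0 < m) {N : ℕ} (hN : (N : Ω) ≠ 0)

omit [IsSepClosed Ω] in
include hN in
theorem isUnit_A : IsUnit (N : Γ(A m Ω, ⊤)) :=
  isUnit_of_hom (str m Ω) (isUnit_spec (IsUnit.mk0 _ hN))

omit [IsSepClosed Ω] in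
theorem irreducibleSpace_A : IrreducibleSpace (A m Ω) :=
  H263.PunctAff.irreducibleSpace_of_isAff (isAff_str (R := Ω) m)

omit [IsSepClosed Ω] in
include hm in
theorem irreducibleSpace_punct : IrreducibleSpace (punct m Ω : Scheme.{u}) :=
  H263.PunctAff.irreducibleSpace_compl (isAff_str (R := Ω) m) hm (H263.PunctStd.zero m Ω)
    (punct m Ω).ι (H263.PunctStd.range_punct m Ω)

omit [IsSepClosed Ω] in
theorem killedBy_constN (X : Scheme.{u}) (N : ℕ) : EtCoh.KilledBy N (EtCoh.const X (ZMod N)) :=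
  Etrest.ConstBasic.killedBy_const _ (ZMod N) N (fun m => by simp)

omit [IsSepClosed Ω] in
include hm in
theorem hb_H0 : HB (punct m Ω).ι (EtCoh.const (A m Ω) (ZMod N)) 0 := by
  have h1 := irreducibleSpace_A (Ω := Ω) m
  have h2 := irreducibleSpace_punct (Ω := Ω) m hm
  exact (hb_iff _).2 (bijective_Hpull_zero (punct m Ω).ι _)

include hm hN in
theorem sph_punct (hL : StmtLine.{u} N) : Sph (punct m Ω : Scheme.{u}) N (2 * m - 1) :=
  H263.PunctStd.punct_std hL hN m hm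

theorem isZ_zero (X : Scheme.{u}) [ConnectedSpace X] (N : ℕ) : IsZ (EtCoh.const X (ZMod N)) 0 N :=
  Etrest.SHPoint.nonempty_H0_const X (ZMod N)

include hm hN in
/-- **Cohomology of the standard quadric of dimension `2m`** (relative to `StmtLine`). -/
theorem sph_std (hL : StmtLine.{u} N) :
    Sph (Spec (CommRingCat.of (stdRing Ω m))) N (2 * m) := by
  let C := MvPolynomial (Fin m) Ω
  let α : Fin m → C := fun i => MvPolynomial.X i
  let G := EtCoh.const (Spec (CommRingCat.of C)) (ZMod N)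
  have hG : EtCoh.KilledBy N G := killedBy_constN _ N
  have hu : IsUnit (N : Γ(Spec (CommRingCat.of C), ⊤)) := isUnit_A m hN
  have h0 : HB (T₀ C α).ι G 0 := hb_H0 m hm
  have hT : ∀ q : ℕ, 0 < q → Subsingleton (EtCoh.H (Spec (CommRingCat.of C)) G q) :=
    fun q hq => H263.PunctAff.subsingleton_H_of_isAff (isAff_str (R := Ω) m) hN q hq
  obtain ⟨k1, k2, -⟩ := sph_punct m hm hN hL
  have e0 : ∀ q : ℕ, Eqv (EtCoh.const (Y C α) (ZMod N)) q ((EtCoh.pull (p C α)).obj G) q :=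
    fun q => (Eqv.of_iso (EtCore.pullConst (p C α) (ZMod N))).symm
  have e1 : ∀ q : ℕ, Eqv ((EtCoh.pull (T₀ C α).ι).obj G) q
      (EtCoh.const (punct m Ω : Scheme.{u}) (ZMod N)) q :=
    fun q => Eqv.of_iso (EtCore.pullConst (T₀ C α).ι (ZMod N))
  have e2 : ∀ q : ℕ, Eqv (EtCoh.const (Y C α) (ZMod N)) (q + 2)
      (EtCoh.const (punct m Ω : Scheme.{u}) (ZMod N)) (q + 1) := fun q =>
    (e0 (q + 2)).trans ((eqv_Y C α hu G hG q (hT _ (Nat.succ_pos _)) (hT _ (Nat.succ_pos _))).trans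
      (e1 (q + 1)))
  refine ⟨fun q hq hq' => ?_, ?_, ?_⟩
  · rcases q with _ | _ | q
    · exact absurd rfl hq
    · exact (e0 1).subsingleton (subsingleton_Y_one C α hu G hG h0 (hT 1 Nat.one_pos))
    · exact (e2 q).subsingleton (k1 (q + 1) (by omega) (by omega))
  · obtain ⟨q, rfl⟩ : ∃ q, m = q + 1 := ⟨m - 1, by omega⟩
    have a1 : 2 * (q + 1) = 2 * q + 2 := by omega
    have a2 : 2 * (q + 1) - 1 = 2 * q + 1 := by omega
    rw [a2] at k2
    rw [a1]
    exact k2.of_eqv (e2 (2 * q))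
  · have h1 := irreducibleSpace_A (Ω := Ω) m
    have h2 : ConnectedSpace (Spec (CommRingCat.of C)) := inferInstanceAs (ConnectedSpace (A m Ω))
    exact (isZ_zero (Spec (CommRingCat.of C)) N).of_eqv ((e0 0).trans (eqv_Y_zero C α hu G hG h0))

variable (R : Type u) [CommRing R] [Algebra R Ω]

include hm hN in
/-- **Cohomology of the geometric fibres of the standard quadric of relative dimension `2m`**
(relative to `StmtLine`). -/
theorem sph_fib (hL : StmtLine.{u} N) : Sph (VanCyc.fib R (stdStr R m) Ω) N (2 * m) := by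
  have sq : IsPullback (VanCyc.jA R (stdStr R m) Ω) (VanCyc.fibStr R (stdStr R m) Ω) (stdStr R m)
      (VanCyc.toS R Ω) := IsPullback.of_hasPullback _ _
  have sq' := isPullback_std m (algebraMap R Ω)
  let e : VanCyc.fib R (stdStr R m) Ω ≅ Spec (CommRingCat.of (stdRing Ω m)) := sq.isoIsPullback _ _ sq'
  exact (sph_std m hm hN hL).of_eqv fun q => eqv_of_isIso e.inv (ZMod N) q

end Std

end Groth.Agent.Vancyc.H686.EvenFib
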