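import Groth.Agent.Vancyc.H685.QuadLoc
import Groth.Agent.Vancyc.H685.StdModel
import Groth.Agent.Vancyc.H686.GeoR
import Groth.Agent.Vancyc.H263.LinearFib

/-!
# Geometry of the quadric `∑ α_i y_i = s (1 - s)` over `T = Spec C`

`T₀ = ⋃ D(α_i)`, `V = p⁻¹ T₀`, `U₀ = D(s) ∪ V`, `U₁ = D(1 - s) ∪ V`.
* `isAffBundle_p`: `V ⟶ T₀` is an affine bundle;
* `cov`, `inter`: `U₀ ∪ U₁ = Y`, `U₀ ∩ U₁ = V`;
* `tau_preimage`: the involution exchanges `U₀` and `U₁`;
* `bijective_hp_U₀`, `bijective_hp_U₁`: `U₀` and `U₁` have the cohomology of `T`.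
-/

set_option autoImplicit false
universe u

open CategoryTheory CategoryTheory.Limits AlgebraicGeometry MvPolynomial

namespace Groth.Agent.Vancyc.H686.EvenGeo

open Groth.Agent.Vancyc.H685 Groth.Agent.Vancyc.H686.GeoR Groth.Agent.Vancyc.H263.AffBundle
  Groth.Agent.Vancyc.H263.LinearFib

variable (C : Type u) [CommRing C] {m : ℕ} (α : Fin m → C)

/-- The quadric. -/
noncomputable abbrev Y : Scheme.{u} := Spec (CommRingCat.of (QuadAlg.QR C α))

/-- Its structure morphism. -/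
noncomputable abbrev p : Y C α ⟶ Spec (CommRingCat.of C) :=
  Spec.map (CommRingCat.ofHom (algebraMap C (QuadAlg.QR C α)))

/-- The union of the `D(α_i)`. -/
noncomputable def T₀ : (Spec (CommRingCat.of C)).Opens := ⨆ i : Fin m, bo (α i)

theorem mem_T₀ (x : Spec (CommRingCat.of C)) : x ∈ T₀ C α ↔ ∃ i : Fin m, x ∈ bo (α i) := by
  unfold T₀
  exact TopologicalSpace.Opens.mem_iSup

/-- The preimage of `T₀`. -/
noncomputable def V : (Y C α).Opens := p C α ⁻¹ᵁ T₀ C α

/-- `D(s) ∪ V` -/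
noncomputable def U₀ : (Y C α).Opens := bo (QuadAlg.s C α) ⊔ V C α

/-- `D(1 - s) ∪ V` -/
noncomputable def U₁ : (Y C α).Opens := bo (1 - QuadAlg.s C α) ⊔ V C α

theorem mem_V (x : Y C α) :
    x ∈ V C α ↔ ∃ i : Fin m, algebraMap C (QuadAlg.QR C α) (α i) ∉ x.asIdeal := by
  have h : x ∈ V C α ↔ p C α x ∈ T₀ C α := Iff.rfl
  rw [h, mem_T₀]
  exact Iff.rfl

theorem cov : U₀ C α ⊔ U₁ C α = ⊤ := by
  apply TopologicalSpace.Opens.ext
  rw [TopologicalSpace.Opens.coe_top, Set.eq_univ_iff_forall]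
  intro x
  by_cases h : x ∈ bo (QuadAlg.s C α)
  · exact Or.inl (Or.inl h)
  · refine Or.inr (Or.inl ?_)
    rw [mem_bo, not_not] at h
    change x ∈ bo (1 - QuadAlg.s C α)
    rw [mem_bo]
    intro h1
    exact x.isPrime.ne_top ((Ideal.eq_top_iff_one _).2 (by simpa using x.asIdeal.add_mem h h1))

theorem inter : U₀ C α ⊓ U₁ C α = V C α := by
  apply TopologicalSpace.Opens.ext
  ext x
  change x ∈ U₀ C α ∧ x ∈ U₁ C α ↔ x ∈ V C α
  constructor
  · rintro ⟨h0 | h0, h1 | h1⟩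
    · change x ∈ bo (QuadAlg.s C α) at h0
      change x ∈ bo (1 - QuadAlg.s C α) at h1
      rw [mem_bo] at h0 h1
      rw [mem_V]
      by_contra hc
      push Not at hc
      have h2 : QuadAlg.s C α * (1 - QuadAlg.s C α) ∈ x.asIdeal := by
        rw [← QuadAlg.relation]
        exact x.asIdeal.sum_mem fun i _ => x.asIdeal.mul_mem_right _ (hc i)
      rcases x.isPrime.mem_or_mem h2 with h | h
      · exact h0 h
      · exact h1 h
    · exact h1
    · exact h0
    · exact h0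
  · intro h
    exact ⟨Or.inr h, Or.inr h⟩

section bundle

variable (i : Fin m)

/-- Localization as a cartesian square. -/
theorem isPullback_loc :
    IsPullback (Spec.map (CommRingCat.ofHom (algebraMap (QuadAlg.QR C α) (QuadAlg.QRi C α i))))
      (Spec.map (CommRingCat.ofHom (QuadAlg.str C α i)))
      (p C α) (Spec.map (CommRingCat.ofHom (algebraMap C (QuadAlg.Ci C α i)))) := by
  refine isPullback_of_univ _ _ _ _ ?_ ?_ ?_
  · ext c
    exact (QuadAlg.str_algebraMap C α i c).symm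
  · intro T _ f g h
    have hu : IsUnit (f (algebraMap C (QuadAlg.QR C α) (α i))) := by
      have h1 := RingHom.congr_fun h (α i)
      change f (algebraMap C (QuadAlg.QR C α) (α i)) = g (algebraMap C _ (α i)) at h1
      rw [h1]
      exact (IsLocalization.Away.algebraMap_isUnit (α i)).map g
    refine ⟨IsLocalization.Away.lift (S := QuadAlg.QRi C α i) (algebraMap C (QuadAlg.QR C α) (α i)) hu,
      ?_, ?_⟩
    · exact IsLocalization.Away.lift_comp _ hu
    · refine IsLocalization.ringHom_ext (Submonoid.powers (α i)) (RingHom.ext fun c => ?_)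
      rw [RingHom.comp_apply, RingHom.comp_apply, QuadAlg.str_algebraMap, IsLocalization.Away.lift_eq]
      exact RingHom.congr_fun h c
  · intro T _ k k' h1 h2
    exact IsLocalization.ringHom_ext (Submonoid.powers (algebraMap C (QuadAlg.QR C α) (α i))) h1

/-- Over `D(α_i)` the quadric is affine `m`-space. -/
theorem isAff_str : IsAff m (Spec.map (CommRingCat.ofHom (QuadAlg.str C α i))) := by
  let _ : Algebra (QuadAlg.Ci C α i) (QuadAlg.QRi C α i) := (QuadAlg.str C α i).toAlgebra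
  have hcard : Fintype.card (QuadAlg.Vars i) = m := by
    rw [Fintype.card_subtype_compl]
    simp
  let eV : QuadAlg.Vars i ≃ Fin m := Fintype.equivFinOfCardEq hcard
  let e0 : MvPolynomial (QuadAlg.Vars i) (QuadAlg.Ci C α i) ≃ₐ[QuadAlg.Ci C α i] QuadAlg.QRi C α i :=
    AlgEquiv.ofRingEquiv (f := QuadAlg.polyEquiv C α i) (fun c =>
      RingHom.congr_fun (QuadAlg.polyEquiv_comp_C C α i) c)
  exact isAff_of_algEquiv (e0.symm.trans (MvPolynomial.renameEquiv _ eV))

theorem isAff_of_range {T E : Scheme.{u}} {t : T ⟶ Spec (CommRingCat.of C)}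
    {q : E ⟶ Y C α} {r : E ⟶ T} (sq : IsPullback q r (p C α) t)
    (hi : Set.range t ⊆ (bo (α i) : Set (Spec (CommRingCat.of C)))) : IsAff m r := by
  let j0 : Spec (CommRingCat.of (QuadAlg.Ci C α i)) ⟶ Spec (CommRingCat.of C) :=
    Spec.map (CommRingCat.ofHom (algebraMap C (QuadAlg.Ci C α i)))
  have hj0 : IsOpenImmersion j0 := inferInstance
  have hr : Set.range j0 = (bo (α i) : Set (Spec (CommRingCat.of C))) :=
    PrimeSpectrum.localization_away_comap_range (QuadAlg.Ci C α i) (α i)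
  let y : T ⟶ Spec (CommRingCat.of (QuadAlg.Ci C α i)) := IsOpenImmersion.lift j0 t (hi.trans hr.ge)
  have hy : y ≫ j0 = t := IsOpenImmersion.lift_fac _ _ _
  rw [← hy] at sq
  exact (isAff_str C α i).of_isPullback (IsPullback.of_right' sq (isPullback_loc C α i))

end bundle

/-- `V ⟶ T₀` is an affine bundle. -/
theorem isAffBundle_p : IsAffBundle m (p C α ∣_ T₀ C α) := by
  refine isAffBundle_of_opens (fun i => (T₀ C α).ι ⁻¹ᵁ bo (α i)) ?_ fun i => ?_
  · apply TopologicalSpace.Opens.ext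
    rw [TopologicalSpace.Opens.coe_iSup, TopologicalSpace.Opens.coe_top, Set.eq_univ_iff_forall]
    intro x
    obtain ⟨i, hi⟩ := (mem_T₀ C α x.1).1 x.2
    exact Set.mem_iUnion.2 ⟨i, hi⟩
  · have sq1 := isPullback_morphismRestrict (p C α ∣_ T₀ C α) ((T₀ C α).ι ⁻¹ᵁ bo (α i))
    have sq2 := isPullback_morphismRestrict (p C α) (T₀ C α)
    refine isAff_of_range C α i (sq1.flip.paste_horiz sq2.flip) ?_
    rintro _ ⟨x, rfl⟩
    exact x.2

/-- The parametrization `E = A^m × T ⟶ Y`. -/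
noncomputable abbrev φ : A m C ⟶ Y C α :=
  Spec.map (CommRingCat.ofHom (QuadAlg.phi C α : QuadAlg.QR C α →+* MvPolynomial (Fin m) C))

theorem φ_p : φ C α ≫ p C α = str m C := by
  rw [← Spec.map_comp, ← CommRingCat.ofHom_comp]
  congr 2
  exact AlgHom.comp_algebraMap (QuadAlg.phi C α)

theorem isIso_restrict_of_awayMap {A B : CommRingCat.{u}} (f : A ⟶ B) (r : A)
    (h : Function.Bijective (Localization.awayMap f.hom r)) :
    IsIso (Spec.map f ∣_ PrimeSpectrum.basicOpen r) := by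
  refine (MorphismProperty.arrow_mk_iso_iff (MorphismProperty.isomorphisms Scheme.{u})
    (SpecMapRestrictBasicOpenIso f r)).2 ?_
  have h2 : IsIso (CommRingCat.ofHom (Localization.awayMap f.hom r)) := by
    rw [ConcreteCategory.isIso_iff_bijective]
    exact h
  change IsIso (Spec.map (CommRingCat.ofHom (Localization.awayMap f.hom r)))
  infer_instance

theorem isIso_φ : IsIso (φ C α ∣_ bo (QuadAlg.s C α)) :=
  isIso_restrict_of_awayMap (CommRingCat.ofHom
    (QuadAlg.phi C α : QuadAlg.QR C α →+* MvPolynomial (Fin m) C)) (QuadAlg.s C α)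
    (QuadAlg.bijective_awayMap_phi C α)

theorem φ_mem (e : A m C) : φ C α e ∈ bo (QuadAlg.s C α) ⊔ p C α ⁻¹ᵁ T₀ C α := by
  by_cases h : φ C α e ∈ V C α
  · exact Or.inr h
  · refine Or.inl ?_
    change φ C α e ∈ bo (QuadAlg.s C α)
    rw [mem_bo]
    rw [mem_V] at h
    push Not at h
    intro h1
    have h2 : QuadAlg.phi C α (QuadAlg.s C α) ∈ e.asIdeal := h1
    rw [QuadAlg.phi_s] at h2
    have h3 : ∀ i, MvPolynomial.C (α i) ∈ e.asIdeal := by
      intro i
      have h4 : QuadAlg.phi C α (algebraMap C (QuadAlg.QR C α) (α i)) ∈ e.asIdeal := h i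
      rwa [AlgHom.commutes] at h4
    have h5 : QuadAlg.lam C α ∈ e.asIdeal :=
      e.asIdeal.sum_mem fun i _ => e.asIdeal.mul_mem_right _ (h3 i)
    exact e.isPrime.ne_top ((Ideal.eq_top_iff_one _).2 (by simpa using e.asIdeal.add_mem h5 h2))

/-- The involution. -/
noncomputable abbrev τ : Y C α ⟶ Y C α :=
  Spec.map (CommRingCat.ofHom (QuadAlg.tau C α : QuadAlg.QR C α →+* QuadAlg.QR C α))

theorem τ_p : τ C α ≫ p C α = p C α := by
  rw [← Spec.map_comp, ← CommRingCat.ofHom_comp]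
  congr 2
  exact AlgHom.comp_algebraMap (QuadAlg.tau C α)

theorem τ_τ : τ C α ≫ τ C α = 𝟙 _ := by
  rw [← Spec.map_comp, ← CommRingCat.ofHom_comp]
  have h : (QuadAlg.tau C α : QuadAlg.QR C α →+* QuadAlg.QR C α).comp
      (QuadAlg.tau C α : QuadAlg.QR C α →+* QuadAlg.QR C α) = RingHom.id _ :=
    RingHom.ext fun x => AlgHom.congr_fun (QuadAlg.tau_tau C α) x
  rw [h]
  exact Spec.map_id _

instance : IsIso (τ C α) := ⟨τ C α, τ_τ C α, τ_τ C α⟩

theorem τ_V : τ C α ⁻¹ᵁ V C α = V C α := by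
  change τ C α ⁻¹ᵁ (p C α ⁻¹ᵁ T₀ C α) = p C α ⁻¹ᵁ T₀ C α
  rw [← Scheme.Hom.comp_preimage, τ_p]

theorem τ_U₀ : τ C α ⁻¹ᵁ U₀ C α = U₁ C α := by
  apply TopologicalSpace.Opens.ext
  ext x
  have h1 : τ C α x ∈ bo (QuadAlg.s C α) ↔ x ∈ bo (1 - QuadAlg.s C α) := by
    rw [mem_bo, mem_bo]
    change ¬ (QuadAlg.tau C α (QuadAlg.s C α) ∈ x.asIdeal) ↔ _
    rw [QuadAlg.tau_s]
  have h2 : τ C α x ∈ V C α ↔ x ∈ V C α := by
    have h : x ∈ τ C α ⁻¹ᵁ V C α ↔ x ∈ V C α := by rw [τ_V]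
    exact h
  exact or_congr h1 h2

theorem τ_U₁ : τ C α ⁻¹ᵁ U₁ C α = U₀ C α := by
  rw [← τ_U₀, ← Scheme.Hom.comp_preimage, τ_τ, Scheme.Hom.id_preimage]

end Groth.Agent.Vancyc.H686.EvenGeo
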