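import Groth.Agent.Vancyc.H686.Van
import Groth.Agent.Vancyc.H686.GeoR
import Groth.Agent.Sga4B.P1Geom441

/-!
# `Van` for the multiplicative group from `Van` for the projective and the affine line

* `van_compl_zeroSec`: `A¹_S ∖ 0` for an arbitrary base;
* `lineIso`: `Spec R[X] ≅ 𝔸(I; Spec R)`;
* `van_gm_of`: `Spec R[X, 1/X] ⟶ Spec R`.
-/

set_option autoImplicit false
universe u
open CategoryTheory CategoryTheory.Limits AlgebraicGeometry Opposite

namespace Groth.Agent.Vancyc.H686.VanGm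

open Groth.Agent.Vancyc.H686.Van Groth.Agent.Vancyc.H686.GeoR Groth.Agent.Sga4B.P1Geom
  Groth.Agent.CycB.P1Chart

section General

variable (S : Scheme.{u})

/-- The complement of the zero section of the affine line. -/
noncomputable def cz : (𝔸(I.{u}; S)).Opens :=
  ⟨(Set.range (zeroSec S))ᶜ, (zeroSec S).isClosedEmbedding.isClosed_range.isOpen_compl⟩

theorem mem_cz (x : 𝔸(I.{u}; S)) : x ∈ cz S ↔ x ∉ Set.range (zeroSec S) := Iff.rfl

/-- `Van` for `A¹_S ∖ 0`. -/
theorem van_compl_zeroSec {N : ℕ} (hP : Van N (CohB1.ProjSpaceOver.toBase 1 S))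
    (hA : Van N (𝔸(I.{u}; S) ↘ S)) : Van N ((cz S).ι ≫ (𝔸(I.{u}; S) ↘ S)) := by
  have h1 : Set.range ((cz S).ι ≫ v S 0) = Set.range (v S 0) ∩ Set.range (v S 1) := by
    have h2 : Set.range (v S 1) = (Set.range (P1.sect S 0))ᶜ := range_v_eq S 1
    have h3 : Set.range ((cz S).ι ≫ v S 0) = v S 0 '' (Set.range (zeroSec S))ᶜ := by
      rw [Scheme.Hom.comp_base, TopCat.coe_comp, Set.range_comp]
      congr 1
      exact (cz S).range_ι
    rw [h2, h3, ← zeroSec_v, Scheme.Hom.comp_base, TopCat.coe_comp, Set.range_comp,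
      Set.image_compl_eq_range_sdiff_image (v S 0).isOpenEmbedding.injective]
    rfl
  have h4 : Set.range (v S 0) ∪ Set.range (v S 1) = Set.univ := by
    rw [Set.eq_univ_iff_forall]
    intro x
    exact mem_range_v_or S x 0
  have h5 := Van.inter (f := CohB1.ProjSpaceOver.toBase 1 S) (v S 0) (v S 1)
    ((cz S).ι ≫ v S 0) h1 h4 (hA.congr (v_toBase S 0).symm) (hA.congr (v_toBase S 1).symm) hP
  exact h5.congr (by rw [Category.assoc, v_toBase])

end General

section Ring

variable (R : Type u) [CommRing R]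

/-- `Spec R[X] ≅ 𝔸(I; Spec R)`. -/
noncomputable def lineIso : L R ≅ 𝔸(I.{u}; Spec (CommRingCat.of R)) :=
  Scheme.Spec.mapIso (RingEquiv.toCommRingCatIso
    (MvPolynomial.uniqueAlgEquiv R I.{u}).toRingEquiv).op ≪≫
    (AffineSpace.SpecIso I.{u} (CommRingCat.of R)).symm

theorem lineIso_over : (lineIso R).hom ≫ (𝔸(I.{u}; Spec (CommRingCat.of R)) ↘ _) = strL R := by
  rw [lineIso, Iso.trans_hom, Iso.symm_hom, Category.assoc, AffineSpace.SpecIso_inv_over]
  change Spec.map _ ≫ Spec.map _ = Spec.map _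
  rw [← Spec.map_comp]
  congr 1
  apply CommRingCat.hom_ext
  exact RingHom.ext fun x => (MvPolynomial.uniqueAlgEquiv R I.{u}).commutes x

/-- The zero section in the coordinate ring. -/
theorem zeroSec_lineIso : zeroSec (Spec (CommRingCat.of R)) =
    Spec.map (CommRingCat.ofHom (Polynomial.evalRingHom (0 : R))) ≫ (lineIso R).hom := by
  have h := zeroSec_SpecIso (CommRingCat.of R)
  rw [← Iso.eq_comp_inv] at h
  rw [h, lineIso, Iso.trans_hom, Iso.symm_hom, ← Category.assoc]
  congr 1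
  change _ = Spec.map _ ≫ Spec.map _
  rw [← Spec.map_comp]
  congr 1
  apply CommRingCat.hom_ext
  have h2 : (MvPolynomial.eval (0 : I.{u} → R)) = (Polynomial.evalRingHom (0 : R)).comp
      (MvPolynomial.uniqueAlgEquiv R I.{u}).toRingEquiv.toRingHom := by
    refine MvPolynomial.ringHom_ext ?_ ?_
    · intro r
      have : (MvPolynomial.uniqueAlgEquiv R I.{u}) (MvPolynomial.C r) = Polynomial.C r :=
        (MvPolynomial.uniqueAlgEquiv R I.{u}).commutes r
      simp [this]
    · intro i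
      simp [MvPolynomial.uniqueAlgEquiv]
  exact h2

theorem preimage_cz : (lineIso R).hom ⁻¹ᵁ cz (Spec (CommRingCat.of R)) = gm R := by
  apply TopologicalSpace.Opens.ext
  ext x
  change (lineIso R).hom x ∈ cz _ ↔ x ∈ gm R
  rw [mem_cz, zeroSec_lineIso]
  have h1 : (lineIso R).hom x ∈ Set.range (Spec.map (CommRingCat.ofHom
      (Polynomial.evalRingHom (0 : R))) ≫ (lineIso R).hom) ↔
      x ∈ Set.range (Spec.map (CommRingCat.ofHom (Polynomial.evalRingHom (0 : R)))) := by
    rw [Scheme.Hom.comp_base, TopCat.coe_comp, Set.range_comp]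
    constructor
    · rintro ⟨y, hy, hyx⟩
      rwa [← (lineIso R).hom.isOpenEmbedding.injective hyx]
    · intro h
      exact ⟨x, h, rfl⟩
  rw [h1]
  have h2 : Set.range (Spec.map (CommRingCat.ofHom (Polynomial.evalRingHom (0 : R)))) =
      PrimeSpectrum.zeroLocus (RingHom.ker (Polynomial.evalRingHom (0 : R))) :=
    _root_.range_comap_of_surjective _ _ (fun r => ⟨Polynomial.C r, by simp⟩)
  rw [h2]
  have h3 : RingHom.ker (Polynomial.evalRingHom (0 : R)) = Ideal.span {Polynomial.X} := by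
    ext p
    rw [RingHom.mem_ker, Ideal.mem_span_singleton, Polynomial.X_dvd_iff,
      Polynomial.coe_evalRingHom, Polynomial.coeff_zero_eq_eval_zero]
  rw [h3]
  have h4 : x ∈ gm R ↔ Polynomial.X ∉ x.asIdeal := Iff.rfl
  rw [h4, not_iff_not]
  change ((Ideal.span {Polynomial.X} : Ideal (Polynomial R)) : Set (Polynomial R)) ⊆
    (x.asIdeal : Ideal (Polynomial R)) ↔ _
  rw [SetLike.coe_subset_coe, Ideal.span_singleton_le_iff_mem]

/-- `Van` for the multiplicative group. -/
theorem van_gm_of {N : ℕ} (hP : Van N (CohB1.ProjSpaceOver.toBase 1 (Spec (CommRingCat.of R))))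
    (hA : Van N (𝔸(I.{u}; Spec (CommRingCat.of R)) ↘ Spec (CommRingCat.of R))) :
    Van N ((gm R).ι ≫ strL R) := by
  have h1 := van_compl_zeroSec (Spec (CommRingCat.of R)) hP hA
  have h2 : ((lineIso R).hom ∣_ cz (Spec (CommRingCat.of R))) ≫ (cz _).ι =
      ((lineIso R).hom ⁻¹ᵁ cz (Spec (CommRingCat.of R))).ι ≫ (lineIso R).hom :=
    morphismRestrict_ι _ _
  have h3 := h1.of_iso ((lineIso R).hom ∣_ cz (Spec (CommRingCat.of R))) rfl
  rw [← Category.assoc, h2, Category.assoc, lineIso_over, preimage_cz] at h3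
  exact h3

end Ring

end Groth.Agent.Vancyc.H686.VanGm
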