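import Groth.Agent.Vancyc.H686.VanStep
import Groth.Agent.Vancyc.H686.VanGm

/-!
# `Van` for punctured affine spaces over a strictly henselian local ring
-/

set_option autoImplicit false
universe u
open CategoryTheory CategoryTheory.Limits AlgebraicGeometry Opposite

namespace Groth.Agent.Vancyc.H686.VanPunct

open Groth.Agent.Vancyc.H686.Van Groth.Agent.Vancyc.H686.VanStep Groth.Agent.Vancyc.H686.VanGm
  Groth.Agent.Vancyc.H686.GeoR

variable {R : Type u} [CommRing R]

theorem pr_strL (n : ℕ) : pr n R ≫ strL R = str (n + 1) R := by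
  rw [← Spec.map_comp, ← CommRingCat.ofHom_comp]
  congr 2
  ext r
  simp

theorem tl_str (n : ℕ) : tl n R ≫ str n R = str (n + 1) R := by
  rw [← Spec.map_comp, ← CommRingCat.ofHom_comp]
  congr 2
  ext r
  simp

instance smooth_strL : Smooth (strL R) := by
  rw [HasRingHomProperty.Spec_iff (P := @Smooth)]
  change (algebraMap R (Polynomial R)).Smooth
  rw [RingHom.smooth_algebraMap]
  exact ⟨inferInstance, inferInstance⟩

instance smooth_str (n : ℕ) : Smooth (str n R) := by
  rw [HasRingHomProperty.Spec_iff (P := @Smooth)]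
  change (algebraMap R (MvPolynomial (Fin n) R)).Smooth
  rw [RingHom.smooth_algebraMap]
  exact ⟨inferInstance, inferInstance⟩

variable [HenselianLocalRing R] [IsSepClosed (IsLocalRing.ResidueField R)]

/-- `Van` for punctured affine spaces. -/
theorem van_punct_of {N : ℕ} (hN : IsUnit (N : Γ(Spec (CommRingCat.of R), ⊤)))
    (hG : Van N ((gm R).ι ≫ strL R)) (hL : UAcyc N (strL R)) (hA : ∀ n : ℕ, UAcyc N (str n R))
    (n : ℕ) : Van N ((punct n R).ι ≫ str n R) := by
  induction n with
  | zero =>
    have : IsEmpty (punct 0 R : Scheme.{u}) := by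
      rw [punct_zero]
      exact ⟨fun x => x.2⟩
    exact van_of_isEmpty N _
  | succ n ih =>
    have h := van_step hN (isPullback_succ n R) hL (hA n) (gm R) (punct n R) hG ih
      (isCompact_punct n R) (punct (n + 1) R) (punct_succ n R)
    rwa [pr_strL] at h

end Groth.Agent.Vancyc.H686.VanPunct
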