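import Groth.Agent.Vancyc.H686.AffQuot
import Groth.Agent.Vancyc.H686.GenFib
import Groth.Agent.Vancyc.H686.VanPunct

/-!
# The affine quadric over a strictly henselian local ring

`R` strictly henselian, `a` non-degenerate in `2m + 2` variables, `X = Spec R[x]/(Q - b)`.
* `exists_chart`: an open subscheme `Y` of `X`, an affine bundle of rank `m` over `A^{m+1}_R ∖ 0`, containing every point at
  which `b` does not vanish.
-/

set_option autoImplicit false
universe u

open CategoryTheory CategoryTheory.Limits AlgebraicGeometry MvPolynomial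

namespace Groth.Agent.Vancyc.H686.QuadGeo

open Groth.Agent.Vancyc.H686.GeoR Groth.Agent.Vancyc.H686.AffQuotAlg Groth.Agent.Vancyc.H686.AffQuot
  Groth.Agent.Vancyc.H686.NormalForm Groth.Agent.Vancyc.H686.Van Groth.Agent.Vancyc.H686.VanStep
  Groth.Agent.Vancyc.H263.AffBundle Groth.Agent.Vancyc.H263.LinearFib

section Chart

variable {R : Type u} [CommRing R] (m : ℕ) (b : R)

/-- The coordinate ring of `{∑ x_j y_j = b}` over `R[x]`. -/
abbrev Q : Type u := Quot (fun j : Fin (m + 1) => (X j : MvPolynomial (Fin (m + 1)) R)) (C b)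

/-- The projection to affine space. -/
noncomputable abbrev πQ : Spec (CommRingCat.of (Q m b)) ⟶ A (m + 1) R :=
  π (fun j : Fin (m + 1) => (X j : MvPolynomial (Fin (m + 1)) R)) (C b)

theorem πQ_str : πQ m b ≫ str (m + 1) R =
    Spec.map (CommRingCat.ofHom (algebraMap R (Q m b))) := by
  rw [← Spec.map_comp, ← CommRingCat.ofHom_comp]
  rfl

/-- The open part of the quadric above the punctured affine space. -/
noncomputable abbrev U : (Spec (CommRingCat.of (Q m b))).Opens := πQ m b ⁻¹ᵁ punct (m + 1) R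

/-- The affine bundle. -/
noncomputable abbrev ρ : (U m b : Scheme.{u}) ⟶ (punct (m + 1) R : Scheme.{u}) :=
  πQ m b ∣_ punct (m + 1) R

theorem isAffBundle_ρ : IsAffBundle m (ρ m b) :=
  isAffBundle _ _ _ le_rfl

theorem mem_U (x : Spec (CommRingCat.of (Q m b))) (hx : algebraMap R (Q m b) b ∉ x.asIdeal) :
    x ∈ U m b := by
  by_contra hn
  have h1 : ∀ i : Fin (m + 1), algebraMap (MvPolynomial (Fin (m + 1)) R) (Q m b) (X i) ∈ x.asIdeal := by
    intro i
    by_contra hi
    exact hn ((mem_punct _ _ _).2 ⟨i, hi⟩)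
  apply hx
  have h2 : (Ideal.Quotient.mk (Ideal.span {eqn (fun j : Fin (m + 1) =>
      (X j : MvPolynomial (Fin (m + 1)) R)) (C b)}))
      (∑ j, C (X j) * X j - C (C b)) = 0 :=
    Ideal.Quotient.eq_zero_iff_mem.2 (Ideal.mem_span_singleton_self _)
  rw [map_sub, sub_eq_zero] at h2
  have h3 : algebraMap R (Q m b) b = (Ideal.Quotient.mk (Ideal.span {eqn (fun j : Fin (m + 1) =>
      (X j : MvPolynomial (Fin (m + 1)) R)) (C b)})) (C (C b)) := rfl
  rw [h3, ← h2, map_sum]
  refine Ideal.sum_mem _ fun i _ => ?_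
  rw [map_mul]
  exact Ideal.mul_mem_right _ _ (h1 i)

end Chart

section Iso

variable {R : Type u} [CommRing R] [HenselianLocalRing R] [IsSepClosed (IsLocalRing.ResidueField R)]

/-- The quadric is the split one. -/
theorem nonempty_algEquiv (m : ℕ) (a : Fin (2 * m + 2) → Fin (2 * m + 2) → R)
    (ha : VanCyc.QuadNondeg a) (b : R) : Nonempty (VanCyc.quadRing R a b ≃ₐ[R] Q m b) := by
  obtain ⟨e⟩ := nonempty_quadRing_equiv (m + 1) (by ring) a ha b
  exact ⟨e.trans (splitEquiv R (m + 1) b)⟩

/-- An open subscheme of the quadric which is an affine bundle over punctured affine space. -/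
theorem exists_chart (m : ℕ) (a : Fin (2 * m + 2) → Fin (2 * m + 2) → R)
    (ha : VanCyc.QuadNondeg a) (b : R) :
    ∃ (j : (U m b : Scheme.{u}) ⟶ Spec (CommRingCat.of (VanCyc.quadRing R a b))),
      IsOpenImmersion j ∧ j ≫ Spec.map (CommRingCat.ofHom (algebraMap R (VanCyc.quadRing R a b))) =
        ρ m b ≫ (punct (m + 1) R).ι ≫ str (m + 1) R ∧
      ∀ x : Spec (CommRingCat.of (VanCyc.quadRing R a b)),
        algebraMap R (VanCyc.quadRing R a b) b ∉ x.asIdeal → x ∈ Set.range j := by
  obtain ⟨e⟩ := nonempty_algEquiv m a ha b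
  let ε : Spec (CommRingCat.of (Q m b)) ≅ Spec (CommRingCat.of (VanCyc.quadRing R a b)) :=
    Scheme.Spec.mapIso (RingEquiv.toCommRingCatIso e.toRingEquiv).op
  have hε : ε.hom ≫ Spec.map (CommRingCat.ofHom (algebraMap R (VanCyc.quadRing R a b))) =
      Spec.map (CommRingCat.ofHom (algebraMap R (Q m b))) := by
    change Spec.map _ ≫ Spec.map _ = Spec.map _
    rw [← Spec.map_comp]
    congr 1
    apply CommRingCat.hom_ext
    exact RingHom.ext fun x => e.commutes x
  refine ⟨(U m b).ι ≫ ε.hom, inferInstance, ?_, ?_⟩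
  · rw [Category.assoc, hε, ← πQ_str, ← Category.assoc, ← Category.assoc (ρ m b),
      morphismRestrict_ι]
  · intro x hx
    have h1 : ε.inv x ∈ U m b := by
      apply mem_U
      intro h2
      apply hx
      have h3 : algebraMap R (VanCyc.quadRing R a b) b = e.symm (algebraMap R (Q m b) b) :=
        (e.symm.commutes b).symm
      rw [h3]
      exact h2
    refine ⟨⟨ε.inv x, h1⟩, ?_⟩
    change ε.hom (ε.inv x) = x
    rw [← Scheme.Hom.comp_apply, ε.inv_hom_id]
    rfl

end Iso

end Groth.Agent.Vancyc.H686.QuadGeo
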