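import Groth.Agent.Vancyc.H686.VanMV
import Groth.Agent.Sga4B.AcycMor

/-!
# Morphisms preserving the vanishing of cohomology

`Van N f` (`f : Y ⟶ S`): for every sheaf `C` on `S` killed by `N` with `H^q(S, C) = 0` for all `q`, also
`H^q(Y, f⁻¹ C) = 0` for all `q`.  Stability properties: composition, acyclic morphisms, isomorphisms,
Mayer-Vietoris (`Van.union`, `Van.inter`).
-/

set_option autoImplicit false
universe u
open CategoryTheory CategoryTheory.Limits AlgebraicGeometry Opposite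

namespace Groth.Agent.Vancyc.H686.Van

open Groth.Agent.Vancyc.H686.VanMV Groth.Agent.EtpbcB.NKillEt Groth.Agent.Sga4B

/-- `f` preserves the vanishing of cohomology of sheaves killed by `N`. -/
def Van (N : ℕ) {Y S : Scheme.{u}} (f : Y ⟶ S) : Prop :=
  ∀ C : EtCoh.Ab S, EtCoh.KilledBy N C → AllZero C → AllZero ((EtCoh.pull f).obj C)

variable {N : ℕ} {S X Y Z : Scheme.{u}}

theorem allZero_comp {g : Z ⟶ Y} {f : Y ⟶ S} {h : Z ⟶ S} (w : g ≫ f = h) {C : EtCoh.Ab S} :
    AllZero ((EtCoh.pull g).obj ((EtCoh.pull f).obj C)) ↔ AllZero ((EtCoh.pull h).obj C) := by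
  subst w
  exact ⟨fun H => H.of_iso ((EtpbcA.PullFLC.pullComp g f).app C),
    fun H => H.of_iso ((EtpbcA.PullFLC.pullComp g f).symm.app C)⟩

theorem Van.comp {g : Z ⟶ Y} {f : Y ⟶ S} (hg : Van N g) (hf : Van N f) : Van N (g ≫ f) := by
  intro C hC h0
  exact (allZero_comp rfl).1 (hg _ (killedBy_pull f hC) (hf C hC h0))

theorem Van.congr {f f' : Y ⟶ S} (hf : Van N f) (w : f = f') : Van N f' := w ▸ hf

instance pull_exact {X Y : Scheme.{u}} (f : X ⟶ Y) : PreservesFiniteLimits (EtCoh.pull f) :=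
  S0101.result f

/-- Acyclic morphisms preserve vanishing. -/
theorem Van.of_acyc {f : Y ⟶ S} (h : AcycMor.Acyc N f) : Van N f := by
  intro C hC h0 q
  have h1 := h0 q
  exact (h.Hpull_bijective C hC q).2.subsingleton

theorem Van.of_isIso (f : Y ⟶ S) [IsIso f] : Van N f :=
  Van.of_acyc (AcycMor.Acyc.of_isIso N f)

theorem Van.id (S : Scheme.{u}) : Van N (𝟙 S) := Van.of_isIso _

theorem Van.of_iso {f : Y ⟶ S} (hf : Van N f) (e : Z ⟶ Y) [IsIso e] {g : Z ⟶ S} (w : e ≫ f = g) :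
    Van N g :=
  ((Van.of_isIso e).comp hf).congr w

section MV

variable {U V W : Scheme.{u}} {f : X ⟶ S} (j : U ⟶ X) (k : V ⟶ X) (w : W ⟶ X) [IsOpenImmersion j]
  [IsOpenImmersion k] [IsOpenImmersion w] (hjk : Set.range w = Set.range j ∩ Set.range k)
  (hcov : Set.range j ∪ Set.range k = Set.univ)

include hjk hcov in
/-- Mayer-Vietoris: the union. -/
theorem Van.union (hj : Van N (j ≫ f)) (hk : Van N (k ≫ f)) (hw : Van N (w ≫ f)) : Van N f := by
  intro C hC h0
  exact allZero_union j k w hjk hcov _ ((allZero_comp rfl).2 (hj C hC h0))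
    ((allZero_comp rfl).2 (hk C hC h0)) ((allZero_comp rfl).2 (hw C hC h0))

include hjk hcov in
/-- Mayer-Vietoris: the intersection. -/
theorem Van.inter (hj : Van N (j ≫ f)) (hk : Van N (k ≫ f)) (hX : Van N f) : Van N (w ≫ f) := by
  intro C hC h0
  exact (allZero_comp rfl).1 (allZero_inter j k w hjk hcov _ ((allZero_comp rfl).2 (hj C hC h0))
    ((allZero_comp rfl).2 (hk C hC h0)) (hX C hC h0))

end MV

end Groth.Agent.Vancyc.H686.Van
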