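import Groth.Agent.Etcore.MVEt
import Groth.Agent.EtpbcA.CdEtLeray
import Groth.Agent.EtpbcB.HRel
import Groth.Agent.EtpbcB.IsoTransport

/-!
# Mayer-Vietoris for open immersions, vanishing form

`AllZero F`: all cohomology groups of `F` vanish.  For open immersions `j k w` into `X` with
`im j ∪ im k = X` and `im w = im j ∩ im k`, vanishing on two of `{j, k}`-both, `w`, `X` gives the third.
-/

set_option autoImplicit false
universe u
open CategoryTheory CategoryTheory.Limits AlgebraicGeometry Opposite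

namespace Groth.Agent.Vancyc.H686.VanMV

/-- All cohomology groups vanish. -/
def AllZero {X : Scheme.{u}} (F : EtCoh.Ab X) : Prop := ∀ q : ℕ, Subsingleton (EtCoh.H X F q)

theorem AllZero.of_iso {X : Scheme.{u}} {F G : EtCoh.Ab X} (h : AllZero F) (e : F ≅ G) :
    AllZero G := fun q => (EtpbcB.IsoTransport.HMapIso e q).symm.toEquiv.subsingleton_congr.2 (h q)

theorem allZero_of_isZero {X : Scheme.{u}} {F : EtCoh.Ab X} (h : IsZero F) : AllZero F :=
  fun q => EtpbcA.CdEtLeray.H_subsingleton_of_isZero h q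

section MV

variable {X U V W : Scheme.{u}} (j : U ⟶ X) (k : V ⟶ X) (w : W ⟶ X) [IsOpenImmersion j]
  [IsOpenImmersion k] [IsOpenImmersion w] (hjk : Set.range w = Set.range j ∩ Set.range k)
  (hcov : Set.range j ∪ Set.range k = Set.univ)

/-- `W ⟶ U`. -/
noncomputable abbrev la (hjk : Set.range w = Set.range j ∩ Set.range k) : W ⟶ U :=
  IsOpenImmersion.lift j w (hjk.le.trans Set.inter_subset_left)

/-- `W ⟶ V`. -/
noncomputable abbrev lb (hjk : Set.range w = Set.range j ∩ Set.range k) : W ⟶ V :=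
  IsOpenImmersion.lift k w (hjk.le.trans Set.inter_subset_right)

include hcov in
/-- Mayer-Vietoris for open immersions. -/
theorem mv (F : EtCoh.Ab X) :
    ∃ δ : ∀ n : ℕ, EtCoh.H W ((EtCoh.pull w).obj F) n →+ EtCoh.H X F (n + 1),
      (AddMonoidHom.prod (EtCore.Hpull j F 0) (EtCore.Hpull k F 0)).ker = ⊥ ∧
      (∀ n : ℕ, (AddMonoidHom.prod (EtCore.Hpull j F (n + 1)) (EtCore.Hpull k F (n + 1))).ker =
        (δ n).range) ∧
      (∀ n : ℕ, (((EtCore.HpullVia (la j k w hjk) j w (IsOpenImmersion.lift_fac _ _ _) F n)).comp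
          (AddMonoidHom.fst _ _) -
          ((EtCore.HpullVia (lb j k w hjk) k w (IsOpenImmersion.lift_fac _ _ _) F n)).comp
          (AddMonoidHom.snd _ _)).ker =
        (AddMonoidHom.prod (EtCore.Hpull j F n) (EtCore.Hpull k F n)).range) ∧
      (∀ n : ℕ, (δ n).ker =
        (((EtCore.HpullVia (la j k w hjk) j w (IsOpenImmersion.lift_fac _ _ _) F n)).comp
          (AddMonoidHom.fst _ _) -
          ((EtCore.HpullVia (lb j k w hjk) k w (IsOpenImmersion.lift_fac _ _ _) F n)).comp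
          (AddMonoidHom.snd _ _)).range) :=
  Groth.Agent.Etcore.MVExtAbs.exists_δ _ _ _ _ _
    (Groth.Agent.Etcore.MVShriek.shortExact_mv j k w hjk (EtCoh.const X ℤ) hcov)
    (Groth.Agent.Etcore.MVEt.ψ w F) (Groth.Agent.Etcore.MVEt.ψ j F)
    (Groth.Agent.Etcore.MVEt.ψ k F)
    (EtCore.Hpull j F) (EtCore.Hpull k F)
    (Groth.Agent.Etcore.MVEt.Hpull_eq j F) (Groth.Agent.Etcore.MVEt.Hpull_eq k F)
    _ _
    (Groth.Agent.Etcore.MVEt.HpullVia_ψ (la j k w hjk) j w (IsOpenImmersion.lift_fac _ _ _)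
      (hjk.le.trans Set.inter_subset_left) F)
    (Groth.Agent.Etcore.MVEt.HpullVia_ψ (lb j k w hjk) k w (IsOpenImmersion.lift_fac _ _ _)
      (hjk.le.trans Set.inter_subset_right) F)

include hjk hcov in
/-- Vanishing on `U`, `V` and `U ∩ V` gives vanishing on `X`. -/
theorem allZero_union (F : EtCoh.Ab X) (hj : AllZero ((EtCoh.pull j).obj F))
    (hk : AllZero ((EtCoh.pull k).obj F)) (hw : AllZero ((EtCoh.pull w).obj F)) : AllZero F := by
  obtain ⟨δ, h0, h1, -, -⟩ := mv j k w hjk hcov F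
  intro q
  refine subsingleton_of_forall_eq 0 fun x => ?_
  have hj' := hj q
  have hk' := hk q
  have hx : x ∈ (AddMonoidHom.prod (EtCore.Hpull j F q) (EtCore.Hpull k F q)).ker :=
    Prod.ext (Subsingleton.elim _ _) (Subsingleton.elim _ _)
  rcases q with _ | q
  · rw [h0] at hx
    exact hx
  · rw [h1 q] at hx
    obtain ⟨y, rfl⟩ := hx
    have hw' := hw q
    rw [Subsingleton.elim y 0, map_zero]

include hjk hcov in
/-- Vanishing on `U`, `V` and `X` gives vanishing on `U ∩ V`. -/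
theorem allZero_inter (F : EtCoh.Ab X) (hj : AllZero ((EtCoh.pull j).obj F))
    (hk : AllZero ((EtCoh.pull k).obj F)) (hX : AllZero F) : AllZero ((EtCoh.pull w).obj F) := by
  obtain ⟨δ, -, -, -, h3⟩ := mv j k w hjk hcov F
  intro q
  refine subsingleton_of_forall_eq 0 fun x => ?_
  have hj' := hj q
  have hk' := hk q
  have hX' := hX (q + 1)
  have hx : x ∈ (δ q).ker := Subsingleton.elim _ _
  rw [h3 q] at hx
  obtain ⟨y, rfl⟩ := hx
  have hy : y = 0 := Prod.ext (Subsingleton.elim _ _) (Subsingleton.elim _ _)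
  rw [hy, map_zero]

end MV

end Groth.Agent.Vancyc.H686.VanMV
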