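import Groth.Agent.Vancyc.H686.VanSH
import Groth.Agent.S0162

/-!
# Products and the inductive step for punctured affine spaces

`S = Spec R`, `R` strictly henselian local, `N` invertible in `R`.
* `UAcyc N f`: all base changes of `f` are acyclic for sheaves killed by `N`;
* `van_prod`: `Van` for `Y ×_S Z`, `Y ⟶ S` smooth, `Z ⟶ S` qcqs;
* `van_step`: `Van` for `(G ×_S F) ∪ (E ×_S V)`, `E`, `F` universally acyclic over `S`, `E` smooth.
-/

set_option autoImplicit false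
universe u
open CategoryTheory CategoryTheory.Limits AlgebraicGeometry Opposite

namespace Groth.Agent.Vancyc.H686.VanStep

open Groth.Agent.Vancyc.H686.VanMV Groth.Agent.Vancyc.H686.Van Groth.Agent.Vancyc.H686.VanSH
  Groth.Agent.Sga4B

/-- All base changes of `f` are acyclic. -/
def UAcyc (N : ℕ) {X S : Scheme.{u}} (f : X ⟶ S) : Prop :=
  ∀ ⦃X' S' : Scheme.{u}⦄ (g' : X' ⟶ X) (f' : X' ⟶ S') (g : S' ⟶ S), IsPullback g' f' f g →
    AcycMor.Acyc N f'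

theorem UAcyc.acyc {N : ℕ} {X S : Scheme.{u}} {f : X ⟶ S} (h : UAcyc N f) : AcycMor.Acyc N f :=
  h (𝟙 X) f (𝟙 S) (IsPullback.of_horiz_isIso ⟨by simp⟩)

section Empty

/-- Sheaves on the empty scheme. -/
theorem allZero_of_isEmpty {X : Scheme.{u}} [IsEmpty X] (F : EtCoh.Ab X) : AllZero F :=
  allZero_of_isZero (Etcore.Stalks.isZero_of_stalks _ fun x => isEmptyElim x)

theorem van_of_isEmpty (N : ℕ) {X S : Scheme.{u}} [IsEmpty X] (f : X ⟶ S) : Van N f :=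
  fun _ _ _ => allZero_of_isEmpty _

end Empty

section SH

variable {R : Type u} [CommRing R] [HenselianLocalRing R] [IsSepClosed (IsLocalRing.ResidueField R)]

/-- `Van` for products. -/
theorem van_prod {N : ℕ} (hN : IsUnit (N : Γ(Spec (CommRingCat.of R), ⊤))) {Y Z P : Scheme.{u}} {f : Y ⟶ Spec (CommRingCat.of R)} {r : Z ⟶ Spec (CommRingCat.of R)}
    {p : P ⟶ Y} {e : P ⟶ Z} (sq : IsPullback e p r f) [Smooth f] [QuasiCompact r]
    [QuasiSeparated r] (hY : Van N f) (hZ : Van N r) : Van N (p ≫ f) :=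
  van_prod_of_bc sq.w (fun F hF q => by
    have hF' : EtPBC.IsTorsionInvertibleOn (Spec (CommRingCat.of R)) F := fun U s x => ⟨U, 𝟙 U, N, ⟨x, rfl⟩, hN, hF U _⟩
    exact (Groth.Agent.S0162.result f r p e sq F hF' q).1) hY hZ

omit [HenselianLocalRing R] [IsSepClosed (IsLocalRing.ResidueField R)] in
theorem quasiCompact_ι_comp {F : Scheme.{u}} (f : F ⟶ Spec (CommRingCat.of R)) (V : F.Opens)
    (hV : IsCompact (V : Set F)) : QuasiCompact (V.ι ≫ f) := by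
  have : CompactSpace V := isCompact_iff_compactSpace.1 hV
  rw [quasiCompact_iff_compactSpace]
  exact this

section step

variable {N : ℕ} (hN : IsUnit (N : Γ(Spec (CommRingCat.of R), ⊤))) {E F P : Scheme.{u}} {e : E ⟶ Spec (CommRingCat.of R)} {f : F ⟶ Spec (CommRingCat.of R)}
  {p : P ⟶ E} {q : P ⟶ F} (hsq : IsPullback p q e f) (he : UAcyc N e) (hf : UAcyc N f) [Smooth e]
  [QuasiSeparated f] (G : E.Opens) (V : F.Opens) (hG : Van N (G.ι ≫ e)) (hV : Van N (V.ι ≫ f))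
  (hVc : IsCompact (V : Set F)) (W : P.Opens) (hW : W = p ⁻¹ᵁ G ⊔ q ⁻¹ᵁ V)

omit [HenselianLocalRing R] [IsSepClosed (IsLocalRing.ResidueField R)] [Smooth e]
  [QuasiSeparated f] in
include hsq hf hG in
/-- `Van` for `G ×_S F`. -/
theorem van_left : Van N ((p ⁻¹ᵁ G).ι ≫ p ≫ e) := by
  have sq1 : IsPullback ((p ⁻¹ᵁ G).ι ≫ q) (p ∣_ G) f (G.ι ≫ e) :=
    (isPullback_morphismRestrict p G).flip.paste_horiz hsq.flip
  have h1 := (Van.of_acyc (hf _ _ _ sq1)).comp hG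
  exact h1.congr (by rw [← Category.assoc, ← Category.assoc, morphismRestrict_ι])

omit [HenselianLocalRing R] [IsSepClosed (IsLocalRing.ResidueField R)] [Smooth e]
  [QuasiSeparated f] in
include hsq he hV in
/-- `Van` for `E ×_S V`. -/
theorem van_right : Van N ((q ⁻¹ᵁ V).ι ≫ p ≫ e) := by
  have h1 := van_left hsq.flip he V hV
  exact h1.congr (by rw [← hsq.w])

include hN hsq hG hV hVc in
/-- `Van` for `G ×_S V`. -/
theorem van_inter : Van N ((((p ⁻¹ᵁ G).ι ≫ q) ⁻¹ᵁ V).ι ≫ (p ⁻¹ᵁ G).ι ≫ p ≫ e) := by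
  have sq1 : IsPullback ((p ⁻¹ᵁ G).ι ≫ q) (p ∣_ G) f (G.ι ≫ e) :=
    (isPullback_morphismRestrict p G).flip.paste_horiz hsq.flip
  have sq2 : IsPullback (((p ⁻¹ᵁ G).ι ≫ q) ∣_ V) ((((p ⁻¹ᵁ G).ι ≫ q) ⁻¹ᵁ V).ι ≫ (p ∣_ G))
      (V.ι ≫ f) (G.ι ≫ e) :=
    (isPullback_morphismRestrict ((p ⁻¹ᵁ G).ι ≫ q) V).paste_vert sq1
  have := quasiCompact_ι_comp f V hVc
  have h1 := van_prod hN sq2 hG hV
  exact h1.congr (by rw [Category.assoc, ← Category.assoc (p ∣_ G), morphismRestrict_ι,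
    Category.assoc])

include hN hsq he hf hG hV hVc hW in
/-- **The inductive step**: `Van` for `(G ×_S F) ∪ (E ×_S V)`. -/
theorem van_step : Van N (W.ι ≫ p ≫ e) := by
  have hle1 : p ⁻¹ᵁ G ≤ W := hW ▸ le_sup_left
  have hle2 : q ⁻¹ᵁ V ≤ W := hW ▸ le_sup_right
  let j : (p ⁻¹ᵁ G : Scheme.{u}) ⟶ W := P.homOfLE hle1
  let k : (q ⁻¹ᵁ V : Scheme.{u}) ⟶ W := P.homOfLE hle2
  let w : ((((p ⁻¹ᵁ G).ι ≫ q) ⁻¹ᵁ V : Scheme.{u})) ⟶ W := (((p ⁻¹ᵁ G).ι ≫ q) ⁻¹ᵁ V).ι ≫ j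
  have hj : ∀ x : W, x ∈ Set.range j ↔ (x : P) ∈ p ⁻¹ᵁ G := by
    intro x
    constructor
    · rintro ⟨y, rfl⟩
      rw [Scheme.homOfLE_apply]
      exact y.2
    · intro h
      refine ⟨⟨x.1, h⟩, ?_⟩
      rw [Scheme.homOfLE_apply']
  have hk : ∀ x : W, x ∈ Set.range k ↔ (x : P) ∈ q ⁻¹ᵁ V := by
    intro x
    constructor
    · rintro ⟨y, rfl⟩
      rw [Scheme.homOfLE_apply]
      exact y.2
    · intro h
      refine ⟨⟨x.1, h⟩, ?_⟩
      rw [Scheme.homOfLE_apply']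
  have hjk : Set.range w = Set.range j ∩ Set.range k := by
    refine Set.ext fun x => ⟨?_, ?_⟩
    · rintro ⟨y, rfl⟩
      have h1 : (w y).1 = y.1.1 := Scheme.homOfLE_apply hle1 _
      refine ⟨(hj _).2 (by rw [h1]; exact y.1.2), (hk _).2 (by rw [h1]; exact y.2)⟩
    · rintro ⟨h1, h2⟩
      refine ⟨⟨⟨x.1, (hj x).1 h1⟩, (hk x).1 h2⟩, ?_⟩
      apply Subtype.ext
      exact Scheme.homOfLE_apply hle1 _
  have hcov : Set.range j ∪ Set.range k = Set.univ := by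
    rw [Set.eq_univ_iff_forall]
    intro x
    have h1 : x.1 ∈ p ⁻¹ᵁ G ⊔ q ⁻¹ᵁ V := hW ▸ x.2
    exact h1.imp (hj x).2 (hk x).2
  refine Van.union (f := W.ι ≫ p ≫ e) j k w hjk hcov ?_ ?_ ?_
  · exact (van_left hsq hf G hG).congr (by
      rw [← Category.assoc j, Scheme.homOfLE_ι])
  · exact (van_right hsq he V hV).congr (by
      rw [← Category.assoc k, Scheme.homOfLE_ι])
  · exact (van_inter hN hsq G V hG hV hVc).congr (by
      rw [Category.assoc, ← Category.assoc j, Scheme.homOfLE_ι])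

end step

end SH

end Groth.Agent.Vancyc.H686.VanStep
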